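import Groth.Agent.GrpQuotLib.RightQuot
import Groth.Agent.GrpSchLib.ArtinTop
import Groth.Agent.S3033
import Groth.Agent.S10831
import Groth.Agent.S10884
import Groth.Agent.FibDim.BaseField

/-! Connected components and dimension of quotients of group schemes over an artinian local ring. -/

set_option backward.isDefEq.respectTransparency false
set_option backward.isDefEq.respectTransparency.types false

universe u

open CategoryTheory Limits AlgebraicGeometry MonoidalCategory CartesianMonoidalCategory MonObj TopologicalSpace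
open Groth.Agent.GrpSchLib.BundleQuot

noncomputable section

namespace Groth.Agent.GrpQuotLib

variable {A : Type u} [CommRing A] [IsArtinianRing A] [IsLocalRing A]

instance : Subsingleton ↥(Spec (CommRingCat.of A)) := ⟨fun p q => by
  have h : ∀ p : PrimeSpectrum A, p = IsLocalRing.closedPoint A := fun p => PrimeSpectrum.ext
    (IsLocalRing.eq_maximalIdeal (IsArtinianRing.isMaximal_of_isPrime p.asIdeal))
  rw [h p, h q]⟩

section Group

variable {G : Over (Spec (CommRingCat.of A))} [GrpObj G] [LocallyOfFiniteType G.hom]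

theorem grp_component (g : G.left) : IsIrreducible (connectedComponent g) ∧ IsCompact (connectedComponent g) ∧
    IsOpen (connectedComponent g) := by
  let e := GrpSchLib.clHomeo G
  obtain ⟨x, rfl⟩ := e.surjective g
  haveI : LocallyOfFiniteType (GrpSchLib.clFib G).hom :=
    inferInstanceAs (LocallyOfFiniteType (pullback.snd G.hom (GrpSchLib.clPt A)))
  haveI : IsLocallyNoetherian (GrpSchLib.clFib G).left :=
    LocallyOfFiniteType.isLocallyNoetherian (GrpSchLib.clFib G).hom
  rw [← GrpSchLib.image_connectedComponent]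
  obtain ⟨c, hc, hcx⟩ := GrpSchLib.exists_isMaxPt x
  refine ⟨?_, (GrpSchLib.isCompact_connectedComponent x).image e.continuous,
    e.isOpenMap _ (GrpSchLib.isOpen_connectedComponent x)⟩
  rw [GrpSchLib.connectedComponent_eq_closure hc hcx]
  exact isIrreducible_singleton.closure.image _ e.continuous.continuousOn

theorem dim_grp_component (g : G.left) :
    topologicalKrullDim ↥(connectedComponent g) = topologicalKrullDim G.left := by
  haveI : Nonempty G.left := ⟨g⟩
  let a : AlgGrp.Action G G := ⟨μ[G], MonObj.one_mul G, MonObj.mul_assoc G⟩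
  have hΦ : Surjective (lift a.act (snd G G)).left := by
    haveI : IsIso (lift μ[G] (snd G G)) := ⟨lift (fst G G * (snd G G)⁻¹) (snd G G), by
      constructor
      · apply CartesianMonoidalCategory.hom_ext
        · simp [MonObj.comp_mul, GrpObj.comp_inv, MonObj.mul_eq_mul]
        · simp
      · apply CartesianMonoidalCategory.hom_ext
        · rw [Category.assoc, lift_fst, MonObj.mul_eq_mul, MonObj.comp_mul, lift_fst, lift_snd,
            inv_mul_cancel_right, Category.id_comp]
        · simp⟩
    haveI : IsIso (lift μ[G] (snd G G)).left :=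
      inferInstanceAs (IsIso ((Over.forget _).map (lift μ[G] (snd G G))))
    exact inferInstanceAs (Surjective (lift μ[G] (snd G G)).left)
  refine le_antisymm (topologicalKrullDim_subspace_le _ _) ?_
  rw [S10831.result G.left]
  refine iSup₂_le fun Y hY => ?_
  obtain ⟨y, hy⟩ := hY.1.nonempty
  rw [S3033.result A G G a hΦ g y]
  exact (Topology.IsEmbedding.inclusion (hY.1.isPreirreducible.isPreconnected.subset_connectedComponent hy)).toIsInducing.topologicalKrullDim_le

end Group

theorem exists_nat_dim {F : Over (Spec (CommRingCat.of A))} [LocallyOfFiniteType F.hom] [QuasiCompact F.hom]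
    [Nonempty F.left] : ∃ r : ℕ, topologicalKrullDim F.left = r := by
  let F₀ := GrpSchLib.clFib F
  let e := GrpSchLib.clHomeo F
  haveI : LocallyOfFiniteType F₀.hom := inferInstanceAs (LocallyOfFiniteType (pullback.snd F.hom (GrpSchLib.clPt A)))
  haveI : QuasiCompact F₀.hom := inferInstanceAs (QuasiCompact (pullback.snd F.hom (GrpSchLib.clPt A)))
  haveI : CompactSpace F₀.left := QuasiCompact.compactSpace_of_compactSpace F₀.hom
  haveI : Nonempty F₀.left := ⟨e.symm (Classical.arbitrary _)⟩
  obtain ⟨e₁, -, -, he₁⟩ := VarDim.exists_deg_eq_topologicalKrullDim F₀.hom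
  exact ⟨VarDim.deg F₀.hom e₁, by rw [← e.isHomeomorph.topologicalKrullDim_eq, he₁]; rfl⟩

section Quot

variable {G F X : Over (Spec (CommRingCat.of A))} [GrpObj G] [GrpObj F] [LocallyOfFiniteType G.hom]
  [LocallyOfFiniteType F.hom] [QuasiCompact F.hom] {u : F ⟶ G} {p : G ⟶ X}

omit [GrpObj F] [LocallyOfFiniteType G.hom] [QuasiCompact F.hom] in
theorem dim_fibre [LocallyOfFiniteType p.left] (hsq : IsPullback ((u ▷ G) ≫ μ[G]) (snd F G) p p) (g : G.left) :
    topologicalKrullDim ↥(p.left ⁻¹' {p.left g}) = topologicalKrullDim F.left := by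
  let S := Spec (CommRingCat.of A)
  let x := G.left.fromSpecResidueField g
  let Q := pullback (snd F G).left x
  haveI : Subsingleton ↥(Spec (G.left.residueField g)) := inferInstance
  have sq1 : IsPullback (pullback.fst (snd F G).left x ≫ (fst F G).left) (pullback.snd (snd F G).left x) F.hom
      (x ≫ G.hom) :=
    ((IsPullback.of_hasPullback (snd F G).left x).flip.paste_vert (IsPullback.of_hasPullback F.hom G.hom).flip).flip
  haveI : LocallyOfFiniteType (snd F G).left :=
    MorphismProperty.of_isPullback (P := @LocallyOfFiniteType) (IsPullback.of_hasPullback F.hom G.hom) ‹_›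
  haveI : LocallyOfFiniteType (pullback.snd (snd F G).left x) := inferInstance
  have d1 := FibDim.topologicalKrullDim_baseChange sq1
  have sq2 : IsPullback (pullback.fst (snd F G).left x ≫ ((u ▷ G) ≫ μ[G]).left) (pullback.snd (snd F G).left x)
      p.left (Spec.map (p.left.residueFieldMap g) ≫ X.left.fromSpecResidueField (p.left g)) := by
    rw [Scheme.Hom.SpecMap_residueFieldMap_fromSpecResidueField]
    exact ((IsPullback.of_hasPullback (snd F G).left x).flip.paste_vert (hsq.map (Over.forget S)).flip).flip
  let fl : Q ⟶ p.left.fiber (p.left g) := pullback.lift (pullback.fst (snd F G).left x ≫ ((u ▷ G) ≫ μ[G]).left)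
    (pullback.snd (snd F G).left x ≫ Spec.map (p.left.residueFieldMap g)) (sq2.w.trans (Category.assoc _ _ _).symm)
  have hfl1 : fl ≫ p.left.fiberι (p.left g) = pullback.fst (snd F G).left x ≫ ((u ▷ G) ≫ μ[G]).left :=
    pullback.lift_fst _ _ _
  have hfl2 : fl ≫ p.left.fiberToSpecResidueField (p.left g) =
      pullback.snd (snd F G).left x ≫ Spec.map (p.left.residueFieldMap g) := pullback.lift_snd _ _ _
  have sq3 : IsPullback fl (pullback.snd (snd F G).left x) (p.left.fiberToSpecResidueField (p.left g))
      (Spec.map (p.left.residueFieldMap g)) := by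
    refine IsPullback.of_right ?_ hfl2 (IsPullback.of_hasPullback p.left _)
    rw [show fl ≫ pullback.fst p.left _ = _ from hfl1]
    exact sq2
  have d2 := FibDim.topologicalKrullDim_baseChange sq3
  rw [← (p.left.fiberHomeo (p.left g)).isHomeomorph.topologicalKrullDim_eq, ← d2, d1]

theorem component_props (hp : Cover p) [LocallyOfFiniteType X.hom]
    (hsq : IsPullback ((u ▷ G) ≫ μ[G]) (snd F G) p p) (x : X.left) :
    IsIrreducible (connectedComponent x) ∧ IsCompact (connectedComponent x) ∧
      topologicalKrullDim ↥(connectedComponent x) + topologicalKrullDim F.left = topologicalKrullDim G.left := by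
  classical
  obtain ⟨hp1, hp2, hp3⟩ := hp
  let img : G.left → Set X.left := fun g => p.left '' connectedComponent g
  have himg_open : ∀ g, IsOpen (img g) := fun g => p.left.isOpenMap _ (grp_component g).2.2
  have himg_irr : ∀ g, IsIrreducible (img g) := fun g => (grp_component g).1.image _ p.left.continuous.continuousOn
  have hmem : ∀ g, p.left g ∈ img g := fun g => ⟨g, mem_connectedComponent, rfl⟩
  obtain ⟨g₀, rfl⟩ := p.left.surjective x
  let C := connectedComponent (p.left g₀)
  have hsub : ∀ g, p.left g ∈ C → img g ⊆ C := fun g hg => by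
    rintro _ ⟨z, hz, rfl⟩
    rw [show C = connectedComponent (p.left g) from connectedComponent_eq hg]
    exact p.left.continuous.image_connectedComponent_subset g ⟨z, hz, rfl⟩
  have hmeet : ∀ g g', (img g ∩ img g').Nonempty → closure (img g) = closure (img g') := fun g g' h => by
    have key : ∀ a b, (img a ∩ img b).Nonempty → closure (img a) ⊆ closure (img b) := fun a b hab =>
      closure_minimal ((subset_closure_inter_of_isPreirreducible_of_isOpen (himg_irr a).isPreirreducible
        (himg_open b) hab).trans (closure_mono Set.inter_subset_right)) isClosed_closure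
    exact le_antisymm (key g g' h) (key g' g (by rwa [Set.inter_comm]))
  let cls : Set G.left := {h | closure (img h) = closure (img g₀)}
  have hUo : IsOpen (⋃ h ∈ cls, img h) := isOpen_biUnion fun h _ => himg_open h
  have hUc : IsClosed (⋃ h ∈ cls, img h) := by
    rw [← isOpen_compl_iff, isOpen_iff_forall_mem_open]
    intro y hy
    obtain ⟨g, rfl⟩ := p.left.surjective y
    refine ⟨img g, fun z hz hzU => ?_, himg_open g, hmem g⟩
    obtain ⟨h, hh, hzh⟩ := Set.mem_iUnion₂.1 hzU
    have hg : g ∈ cls := (hmeet g h ⟨z, hz, hzh⟩).trans hh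
    exact hy (Set.mem_iUnion₂.2 ⟨g, hg, hmem g⟩)
  have hCU : C ⊆ ⋃ h ∈ cls, img h := (IsClopen.connectedComponent_subset ⟨hUc, hUo⟩
    (Set.mem_iUnion₂.2 ⟨g₀, rfl, hmem g₀⟩))
  have hC : C = closure (img g₀) := by
    refine subset_antisymm (fun y hy => ?_) (closure_minimal (hsub g₀ mem_connectedComponent) isClosed_connectedComponent)
    obtain ⟨h, hh, hyh⟩ := Set.mem_iUnion₂.1 (hCU hy)
    rw [← (show closure (img h) = closure (img g₀) from hh)]
    exact subset_closure hyh
  have hCirr : IsIrreducible C := hC ▸ (himg_irr g₀).closure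
  have hCopen : IsOpen C := isOpen_iff_forall_mem_open.2 fun y hy => by
    obtain ⟨g, rfl⟩ := p.left.surjective y
    exact ⟨img g, hsub g hy, himg_open g, hmem g⟩
  -- finitely many components of `G` map to `C`
  haveI : QuasiCompact (snd F G).left :=
    MorphismProperty.of_isPullback (P := @QuasiCompact) (IsPullback.of_hasPullback F.hom G.hom) ‹_›
  obtain ⟨hD1, hD2, hD3⟩ := grp_component g₀
  have hM : IsCompact (((u ▷ G) ≫ μ[G]).left '' ((snd F G).left ⁻¹' connectedComponent g₀)) :=
    ((snd F G).left.isCompact_preimage (U := ⟨_, hD3⟩) hD2).image ((u ▷ G) ≫ μ[G]).left.continuous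
  obtain ⟨t, ht⟩ := hM.elim_finite_subcover (fun g : G.left => connectedComponent g)
    (fun g => (grp_component g).2.2) fun g _ => Set.mem_iUnion.2 ⟨g, mem_connectedComponent⟩
  have hcov : ∀ g, p.left g ∈ C → ∃ j ∈ t, connectedComponent g = connectedComponent j := fun g hg => by
    obtain ⟨y, -, ⟨z, hz, hzy⟩, ⟨z', hz', hzy'⟩⟩ := hCirr.isPreirreducible (img g₀) (img g) (himg_open g₀) (himg_open g)
      ⟨_, mem_connectedComponent, hmem g₀⟩ ⟨_, hg, hmem g⟩
    obtain ⟨r, hr1, hr2⟩ := Scheme.exists_preimage_of_isPullback (hsq.map (Over.forget _)) z' z (hzy'.trans hzy.symm)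
    have hr3 : r ∈ (snd F G).left ⁻¹' connectedComponent g₀ :=
      (congrArg (· ∈ connectedComponent g₀) hr2).mpr hz
    obtain ⟨j, hj, hjm⟩ := Set.mem_iUnion₂.1 (ht ⟨r, hr3, hr1⟩)
    exact ⟨j, hj, (connectedComponent_eq hz').trans (connectedComponent_eq hjm).symm⟩
  let t' := t.filter fun j => p.left j ∈ C
  have hCeq : C = ⋃ j ∈ t', img j := by
    refine subset_antisymm (fun y hy => ?_) (Set.iUnion₂_subset fun j hj => hsub j (Finset.mem_filter.1 hj).2)
    obtain ⟨g, rfl⟩ := p.left.surjective y
    obtain ⟨j, hj, hjg⟩ := hcov g hy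
    have hjC : p.left j ∈ C :=
      hsub g hy ⟨j, hjg ▸ mem_connectedComponent, rfl⟩
    exact Set.mem_iUnion₂.2 ⟨j, Finset.mem_filter.2 ⟨hj, hjC⟩, g, hjg ▸ mem_connectedComponent, rfl⟩
  have hCc : IsCompact C := by
    rw [hCeq]
    exact t'.finite_toSet.isCompact_biUnion fun j _ => (grp_component j).2.1.image p.left.continuous
  refine ⟨hCirr, hCc, ?_⟩
  -- dimension
  let V : X.left.Opens := ⟨C, hCopen⟩
  let W : G.left.Opens := p.left ⁻¹ᵁ V
  have hWc : IsCompact (W : Set G.left) := by
    have : (W : Set G.left) = ⋃ j ∈ t', connectedComponent j := by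
      refine subset_antisymm (fun g hg => ?_) (Set.iUnion₂_subset fun j hj z hz =>
        hsub j (Finset.mem_filter.1 hj).2 ⟨z, hz, rfl⟩)
      obtain ⟨j, hj, hjg⟩ := hcov g hg
      exact Set.mem_iUnion₂.2 ⟨j, Finset.mem_filter.2 ⟨hj, hsub g hg ⟨j, hjg ▸ mem_connectedComponent, rfl⟩⟩,
        hjg ▸ mem_connectedComponent⟩
    rw [this]
    exact t'.finite_toSet.isCompact_biUnion fun j _ => (grp_component j).2.1
  have hWd : topologicalKrullDim ↥(W : Set G.left) = topologicalKrullDim G.left := by
    refine le_antisymm (topologicalKrullDim_subspace_le _ _) ?_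
    rw [← dim_grp_component g₀]
    exact (Topology.IsEmbedding.inclusion (show connectedComponent g₀ ⊆ (W : Set G.left) from
      fun z hz => hsub g₀ mem_connectedComponent ⟨z, hz, rfl⟩)).toIsInducing.topologicalKrullDim_le
  haveI : LocallyOfFiniteType p.left := inferInstance
  haveI : Nonempty F.left := ⟨η[F].left (IsLocalRing.closedPoint A)⟩
  obtain ⟨r, hr⟩ := exists_nat_dim (F := F)
  let Vo : Over (Spec (CommRingCat.of A)) := Over.mk (V.ι ≫ X.hom)
  let Wo : Over (Spec (CommRingCat.of A)) := Over.mk (W.ι ≫ G.hom)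
  let f : Wo ⟶ Vo := Over.homMk (p.left ∣_ V) (by
    show (p.left ∣_ V) ≫ V.ι ≫ X.hom = W.ι ≫ G.hom
    rw [morphismRestrict_ι_assoc, Over.w])
  let f₀ := ((Over.pullback (GrpSchLib.clPt A)).map f).left
  let eW := GrpSchLib.clHomeo Wo
  let eV := GrpSchLib.clHomeo Vo
  haveI : LocallyOfFiniteType f.left := inferInstanceAs (LocallyOfFiniteType (p.left ∣_ V))
  haveI : Surjective f.left :=
    MorphismProperty.of_isPullback (P := @Surjective) (isPullback_morphismRestrict p.left V).flip hp2
  haveI : LocallyOfFiniteType f₀ := MorphismProperty.overPullbackMap (P := @LocallyOfFiniteType) _ f ‹_›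
  haveI : Surjective f₀ := MorphismProperty.overPullbackMap (P := @Surjective) _ f ‹_›
  haveI : LocallyOfFiniteType Vo.hom := inferInstanceAs (LocallyOfFiniteType (V.ι ≫ X.hom))
  haveI : LocallyOfFiniteType (GrpSchLib.clFib Vo).hom :=
    inferInstanceAs (LocallyOfFiniteType (pullback.snd Vo.hom (GrpSchLib.clPt A)))
  haveI : CompactSpace Vo.left := isCompact_iff_compactSpace.1 hCc
  haveI : CompactSpace Wo.left := isCompact_iff_compactSpace.1 hWc
  haveI : CompactSpace (GrpSchLib.clFib Vo).left := eV.symm.compactSpace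
  haveI : CompactSpace (GrpSchLib.clFib Wo).left := eW.symm.compactSpace
  haveI : QuasiCompact (GrpSchLib.clFib Vo).hom :=
    (HasAffineProperty.iff_of_isAffine (P := @QuasiCompact)).2 ‹_›
  haveI : QuasiCompact (f₀ ≫ (GrpSchLib.clFib Vo).hom) :=
    (HasAffineProperty.iff_of_isAffine (P := @QuasiCompact)).2 ‹_›
  haveI : QuasiSeparated (GrpSchLib.clFib Vo).hom := by
    haveI : IsLocallyNoetherian (GrpSchLib.clFib Vo).left :=
      LocallyOfFiniteType.isLocallyNoetherian (GrpSchLib.clFib Vo).hom
    infer_instance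
  haveI : QuasiCompact f₀ := QuasiCompact.of_comp f₀ (GrpSchLib.clFib Vo).hom
  have h := S10884.result (IsLocalRing.ResidueField A) (GrpSchLib.clFib Vo).hom f₀
    f₀.surjective.denseRange r fun y _ => ?_
  · have e1 : topologicalKrullDim Wo.left = topologicalKrullDim ↥(W : Set G.left) := rfl
    have e2 : topologicalKrullDim Vo.left = topologicalKrullDim ↥C := rfl
    rw [eW.isHomeomorph.topologicalKrullDim_eq, eV.isHomeomorph.topologicalKrullDim_eq, e1, e2, hWd] at h
    rw [hr, h, add_comm]
  · obtain ⟨g, hg⟩ := f.left.surjective (eV y)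
    have hset : eW '' (f₀ ⁻¹' {y}) = f.left ⁻¹' {eV y} := by
      ext z
      constructor
      · rintro ⟨z, hz, rfl⟩
        show f.left (eW z) = eV y
        rw [← GrpSchLib.map_clFib_apply Vo f z]
        exact congrArg eV hz
      · intro hz
        refine ⟨eW.symm z, eV.injective ?_, eW.apply_symm_apply z⟩
        rw [GrpSchLib.map_clFib_apply Vo f, eW.apply_symm_apply]
        exact hz
    have hset' : W.ι '' (f.left ⁻¹' {eV y}) = p.left ⁻¹' {p.left g.1} := by
      ext z
      constructor
      · rintro ⟨z, hz, rfl⟩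
        show p.left (W.ι z) = p.left g.1
        have hzg : f.left z = f.left g := hz.trans hg.symm
        calc p.left (W.ι z) = V.ι (f.left z) := by
              show (W.ι ≫ p.left) z = ((p.left ∣_ V) ≫ V.ι) z
              rw [morphismRestrict_ι]
          _ = V.ι (f.left g) := congrArg V.ι hzg
          _ = p.left g.1 := by
              show ((p.left ∣_ V) ≫ V.ι) g = (W.ι ≫ p.left) g
              rw [morphismRestrict_ι]
      · intro hz
        have hzW : z ∈ W := by
          show p.left z ∈ V
          rw [show p.left z = p.left g.1 from hz]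
          exact g.2
        refine ⟨⟨z, hzW⟩, ?_, rfl⟩
        show f.left _ = eV y
        rw [← hg]
        refine V.ι.isOpenEmbedding.injective ?_
        show ((p.left ∣_ V) ≫ V.ι) ⟨z, hzW⟩ = ((p.left ∣_ V) ≫ V.ι) g
        rw [morphismRestrict_ι]
        exact hz
    rw [← hr, ← dim_fibre hsq g.1]
    exact (((eW.image _).trans (Homeomorph.setCongr hset)).trans
      ((W.ι.isOpenEmbedding.isEmbedding.homeomorphImage _).trans (Homeomorph.setCongr hset'))).isHomeomorph.topologicalKrullDim_eq

end Quot

end Groth.Agent.GrpQuotLib
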