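import Groth.Agent.GrpQuotLib.Field
import Groth.Agent.FpqcDescLib.Group
import Groth.Agent.GrpSchLib.AntiAffineHom
import Groth.Prelude.Def_AlgGrp

/-! The quotient of an algebraic group over a field by a normal subgroup, as a group scheme. -/

set_option backward.isDefEq.respectTransparency false
set_option backward.isDefEq.respectTransparency.types false

universe u

open CategoryTheory Limits AlgebraicGeometry MonoidalCategory CartesianMonoidalCategory MonObj
open Groth.Agent.GrpSchLib.BundleQuot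

noncomputable section

namespace Groth.Agent.GrpQuotLib

variable {k : Type u} [Field k]

/-- A homomorphism whose fibres are the cosets of a subgroup has it as kernel. -/
theorem isKernel_of_isCosetMap {S : Scheme.{u}} {H G Q : Over S} [GrpObj H] [GrpObj G] [GrpObj Q] {i : H ⟶ G}
    [IsMonHom i] [Mono i] {q : G ⟶ Q} [IsMonHom q] (hc : FpqcDescLib.IsCosetMap i q) : AlgGrp.IsKernel i q := by
  have hw : i ≫ q = toUnit H ≫ η[Q] := by
    have h := (hc H 1 i).2 ⟨𝟙 H, by rw [_root_.one_mul, Category.id_comp]⟩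
    rw [MonObj.one_comp, Hom.one_def] at h
    exact h.symm
  have hl : ∀ c : PullbackCone q η[Q], ∃ h : c.pt ⟶ H, c.fst = h ≫ i := fun c => by
    have h1 : (1 : c.pt ⟶ G) ≫ q = c.fst ≫ q := by
      rw [c.condition, MonObj.one_comp, Hom.one_def, toUnit_unique c.snd (toUnit _)]
    obtain ⟨h, hh⟩ := (hc _ _ _).1 h1
    exact ⟨h, by rw [hh, _root_.one_mul]⟩
  choose l hl using hl
  exact ⟨⟨hw⟩, ⟨PullbackCone.IsLimit.mk _ l (fun c => (hl c).symm) (fun c => toUnit_unique _ _)
    (fun c m h1 _ => by rw [← cancel_mono i, h1, hl c])⟩⟩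

/-- The quotient group. -/
theorem exists_quotientGrp {G H : Over (Spec (.of k))} [GrpObj G] [GrpObj H] (i : H ⟶ G) [IsMonHom i] [Mono i]
    [LocallyOfFiniteType G.hom] [LocallyOfFiniteType H.hom] [QuasiCompact i.left] (hN : AlgGrp.IsNormalHom i) :
    ∃ (Q : Over (Spec (.of k))) (_ : GrpObj Q) (q : G ⟶ Q), IsMonHom q ∧ Flat q.left ∧ Surjective q.left ∧
      LocallyOfFinitePresentation q.left ∧ LocallyOfFiniteType Q.hom ∧
      FpqcDescLib.IsCosetMap i q ∧ AlgGrp.IsKernel i q := by
  haveI := GrpSchLib.AntiAffine.isSeparated_grp G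
  obtain ⟨Q, q, ⟨h1, h2, h3⟩, hlft, hker⟩ := exists_quotient (i := i)
  have hc : FpqcDescLib.IsCosetMap i q := fun T a b => hker a b
  obtain ⟨s, hs⟩ := FpqcDescLib.exists_grpObj
    (FpqcDescLib.covers_of_isCovering (FpqcDescLib.isCovering_of_lfp q.left)) hc hN
  exact ⟨Q, s, q, hs, h1, h2, h3, hlft, hc, isKernel_of_isCosetMap hc⟩

end Groth.Agent.GrpQuotLib
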