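import Groth.Agent.GrpQuotLib.Ops

/-! Restriction of open quotients to smaller opens. -/

set_option backward.isDefEq.respectTransparency false
set_option backward.isDefEq.respectTransparency.types false

universe u

open CategoryTheory Limits AlgebraicGeometry MonoidalCategory CartesianMonoidalCategory MonObj
open Groth.Agent.GrpSchLib.BundleQuot

noncomputable section

namespace Groth.Agent.GrpQuotLib

variable {S : Scheme.{u}}

theorem exists_lift_of_range_subset {U T Y : Over S} (u : U ⟶ Y) [IsOpenImmersion u.left] (b : T ⟶ Y)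
    (h : Set.range b.left ⊆ Set.range u.left) : ∃ l : T ⟶ U, l ≫ u = b := by
  refine ⟨Over.homMk (IsOpenImmersion.lift u.left b.left h) ?_, Over.OverMorphism.ext ?_⟩
  · rw [← Over.w u, IsOpenImmersion.lift_fac_assoc, Over.w]
  · exact IsOpenImmersion.lift_fac _ _ h

theorem left_apply_comp {A B C : Over S} (f : A ⟶ B) (g : B ⟶ C) (x : A.left) :
    (f ≫ g).left x = g.left (f.left x) := rfl

theorem Cover.iso_comp {W W' X : Over S} (e : W' ≅ W) {p : W ⟶ X} (h : Cover p) : Cover (e.hom ≫ p) := by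
  obtain ⟨h1, h2, h3⟩ := h
  haveI : IsIso e.hom.left := inferInstanceAs (IsIso ((Over.forget S).map e.hom))
  exact ⟨inferInstanceAs (Flat (e.hom.left ≫ p.left)), inferInstanceAs (Surjective (e.hom.left ≫ p.left)),
    inferInstanceAs (LocallyOfFinitePresentation (e.hom.left ≫ p.left))⟩

variable {G H : Over S} [GrpObj G] [GrpObj H] {i : H ⟶ G} {Z : Over S}

/-- The range of an open quotient is saturated, pointwise. -/
theorem IsOpenQuot.mem_range_of_rel {W X : Over S} {w : W ⟶ G ⊗ Z} {p : W ⟶ X} (h : IsOpenQuot i Z w p)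
    {T : Over S} (a b : T ⟶ G ⊗ Z) (hab : Rel i Z a b) (t : T.left) (ha : a.left t ∈ Set.range w.left) :
    b.left t ∈ Set.range w.left := by
  haveI := h.openImm
  let V : T.left.Opens := a.left ⁻¹ᵁ w.left.opensRange
  let T1 : Over S := Over.mk (V.ι ≫ T.hom)
  let j : T1 ⟶ T := Over.homMk V.ι rfl
  obtain ⟨a1, ha1⟩ := exists_lift_of_range_subset w (j ≫ a) (by
    rintro _ ⟨s, rfl⟩
    exact s.2)
  obtain ⟨h1, c, h2⟩ := hab
  obtain ⟨b1, hb1⟩ := h.stable a1 (j ≫ b) (by
    rw [ha1]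
    refine ⟨by simp only [Category.assoc, h1], j ≫ c, ?_⟩
    rw [Category.assoc, h2, MonObj.comp_mul]
    simp only [Category.assoc])
  exact ⟨b1.left ⟨t, ha⟩, (left_apply_comp b1 w _).symm.trans (by rw [hb1]; rfl)⟩

/-- Restriction of an open quotient to an open of the quotient. -/
theorem IsOpenQuot.restrict {W X : Over S} {w : W ⟶ G ⊗ Z} {p : W ⟶ X} (h : IsOpenQuot i Z w p)
    (A : X.left.Opens) :
    ∃ (W' : Over S) (r : W' ⟶ W) (p' : W' ⟶ Over.mk (A.ι ≫ X.hom)), IsOpenQuot i Z (r ≫ w) p' ∧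
      p' ≫ Over.homMk A.ι rfl = r ≫ p ∧ Set.range r.left = p.left ⁻¹' (A : Set X.left) := by
  haveI := h.openImm
  let B : W.left.Opens := p.left ⁻¹ᵁ A
  let W' : Over S := Over.mk (B.ι ≫ W.hom)
  let r : W' ⟶ W := Over.homMk B.ι rfl
  let j : Over.mk (A.ι ≫ X.hom) ⟶ X := Over.homMk A.ι rfl
  let p' : W' ⟶ Over.mk (A.ι ≫ X.hom) := Over.homMk (p.left ∣_ A) (by
    show (p.left ∣_ A) ≫ A.ι ≫ X.hom = B.ι ≫ W.hom
    rw [morphismRestrict_ι_assoc, Over.w])
  have hpj : p' ≫ j = r ≫ p := Over.OverMorphism.ext (morphismRestrict_ι p.left A)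
  haveI : IsOpenImmersion r.left := inferInstanceAs (IsOpenImmersion B.ι)
  haveI : IsOpenImmersion j.left := inferInstanceAs (IsOpenImmersion A.ι)
  haveI : Mono j := (Over.forget S).mono_of_mono_map (inferInstanceAs (Mono A.ι))
  have hr : Set.range r.left = p.left ⁻¹' (A : Set X.left) := B.range_ι
  refine ⟨W', r, p', ⟨inferInstanceAs (IsOpenImmersion (r.left ≫ w.left)), ?_, fun {T} a b hab => ?_,
    fun a b => ?_⟩, hpj, hr⟩
  · obtain ⟨h1, h2, h3⟩ := h.cover
    have sq := isPullback_morphismRestrict p.left A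
    exact ⟨MorphismProperty.of_isPullback (P := @Flat) sq.flip h1,
      MorphismProperty.of_isPullback (P := @Surjective) sq.flip h2,
      MorphismProperty.of_isPullback (P := @LocallyOfFinitePresentation) sq.flip h3⟩
  · rw [← Category.assoc] at hab
    obtain ⟨b', hb'⟩ := h.stable (a ≫ r) b hab
    have hp : b' ≫ p = (a ≫ r) ≫ p := ((h.kernel (a ≫ r) b').2 (by rw [hb']; exact hab)).symm
    obtain ⟨b'', hb''⟩ := exists_lift_of_range_subset r b' (by
      rintro _ ⟨t, rfl⟩
      rw [hr, Set.mem_preimage, ← left_apply_comp, hp, left_apply_comp, left_apply_comp]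
      exact (a.left t).2)
    exact ⟨b'', by rw [← Category.assoc, hb'', hb']⟩
  · rw [← cancel_mono j, Category.assoc, Category.assoc, hpj, ← Category.assoc a, ← Category.assoc b, h.kernel]
    simp only [Category.assoc]

/-- A saturated open of an open quotient is an open quotient. -/
theorem IsOpenQuot.exists_of_subset {W X : Over S} {w : W ⟶ G ⊗ Z} {p : W ⟶ X} (h : IsOpenQuot i Z w p)
    {U : Over S} (u : U ⟶ G ⊗ Z) [IsOpenImmersion u.left]
    (hu : Set.range u.left ⊆ Set.range w.left)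
    (hst : ∀ {T : Over S} (a : T ⟶ U) (b : T ⟶ G ⊗ Z), Rel i Z (a ≫ u) b → ∃ b', b' ≫ u = b) :
    ∃ (V : Over S) (j : V ⟶ X) (q : U ⟶ V), IsOpenImmersion j.left ∧ IsOpenQuot i Z u q := by
  haveI := h.openImm
  obtain ⟨hp1, hp2, hp3⟩ := h.cover
  obtain ⟨l, hl⟩ := exists_lift_of_range_subset w u hu
  haveI : IsOpenImmersion (l.left ≫ w.left) := by rw [← Over.comp_left, hl]; infer_instance
  haveI : IsOpenImmersion l.left := IsOpenImmersion.of_comp l.left w.left
  let A : X.left.Opens := ⟨p.left '' Set.range l.left, p.left.isOpenMap _ l.left.opensRange.isOpen⟩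
  obtain ⟨W', r, p', h', -, hr⟩ := h.restrict A
  have hlr : Set.range l.left = Set.range r.left := by
    rw [hr]
    refine Set.Subset.antisymm (fun x hx => ⟨x, hx, rfl⟩) ?_
    rintro x ⟨_, ⟨y, rfl⟩, hy⟩
    obtain ⟨τ, h1, h2⟩ := Scheme.exists_preimage_of_isPullback
      ((IsPullback.of_hasPullback (l ≫ p) p).map (Over.forget S)) y x hy
    obtain ⟨b', hb'⟩ := hst (pullback.fst (l ≫ p) p) (pullback.snd (l ≫ p) p ≫ w) (by
      rw [← hl, ← Category.assoc, ← h.kernel, Category.assoc, pullback.condition])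
    refine ⟨b'.left τ, w.left.isOpenEmbedding.injective ?_⟩
    rw [← left_apply_comp, hl, ← left_apply_comp, hb', left_apply_comp]
    exact congrArg w.left h2
  have hran : Set.range u.left = Set.range (r ≫ w).left := by
    rw [← hl]
    ext x
    constructor
    · rintro ⟨y, rfl⟩
      obtain ⟨y', hy'⟩ : l.left y ∈ Set.range r.left := hlr ▸ ⟨y, rfl⟩
      exact ⟨y', congrArg w.left hy'⟩
    · rintro ⟨y, rfl⟩
      obtain ⟨y', hy'⟩ : r.left y ∈ Set.range l.left := hlr.symm ▸ ⟨y, rfl⟩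
      exact ⟨y', congrArg w.left hy'⟩
  haveI := h'.openImm
  let e : U ≅ W' := Over.isoMk (IsOpenImmersion.isoOfRangeEq u.left (r ≫ w).left hran) (by
    rw [← Over.w (r ≫ w), IsOpenImmersion.isoOfRangeEq_hom_fac_assoc, Over.w])
  have he : e.hom ≫ r ≫ w = u :=
    Over.OverMorphism.ext (IsOpenImmersion.isoOfRangeEq_hom_fac u.left (r ≫ w).left hran)
  refine ⟨_, Over.homMk A.ι rfl, e.hom ≫ p', inferInstanceAs (IsOpenImmersion A.ι),
    ⟨inferInstance, Cover.iso_comp e h'.cover, fun a b hab => hst a b hab, fun a b => ?_⟩⟩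
  rw [← Category.assoc, ← Category.assoc b, h'.kernel]
  simp only [Category.assoc, he]

end Groth.Agent.GrpQuotLib
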