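import Groth.Agent.GrpQuotLib.Artin

/-! Right coset quotients over an artinian local ring, and quotient groups. -/

set_option backward.isDefEq.respectTransparency false
set_option backward.isDefEq.respectTransparency.types false

universe u

open CategoryTheory Limits AlgebraicGeometry MonoidalCategory CartesianMonoidalCategory MonObj
open Groth.Agent.GrpSchLib.BundleQuot

noncomputable section

namespace Groth.Agent.GrpQuotLib

variable {A : Type u} [CommRing A] [IsArtinianRing A] [IsLocalRing A]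

theorem props_of_cover {G X : Over (Spec (CommRingCat.of A))} {p : G ⟶ X} (h : Cover p) :
    (Flat G.hom → Flat X.hom) ∧ (QuasiCompact G.hom → QuasiCompact X.hom) ∧ (Smooth G.hom → Smooth X.hom) := by
  obtain ⟨h1, h2, h3⟩ := h
  refine ⟨fun hG => ?_, fun hG => ?_, fun hG => ?_⟩
  · haveI : Flat (p.left ≫ X.hom) := by rw [Over.w]; exact hG
    exact SrcDescent.flat_of_fppf_comp p.left X.hom
  · rw [HasAffineProperty.iff_of_isAffine (P := @QuasiCompact)]
    haveI : CompactSpace G.left := QuasiCompact.compactSpace_of_compactSpace G.hom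
    exact p.left.surjective.compactSpace p.left.continuous
  · haveI : Smooth (p.left ≫ X.hom) := by rw [Over.w]; exact hG
    exact SrcDescent.smooth_of_fppf_comp p.left X.hom

/-- The quotient by right cosets, as a cartesian square. -/
theorem exists_rightQuotient {G H : Over (Spec (CommRingCat.of A))} [GrpObj G] [GrpObj H] (i : H ⟶ G)
    [IsMonHom i] [Mono i] [LocallyOfFiniteType G.hom] [Flat H.hom] [LocallyOfFiniteType H.hom]
    [QuasiCompact i.left] :
    ∃ (X : Over (Spec (CommRingCat.of A))) (p : G ⟶ X), Cover p ∧ LocallyOfFiniteType X.hom ∧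
      IsSeparated X.hom ∧ IsPullback ((i ▷ G) ≫ μ[G]) (snd H G) p p := by
  obtain ⟨X, P, hP, hlft, hsep, hk⟩ := exists_quotient_artinian i
  let e : G ≅ G := ⟨(𝟙 G)⁻¹, (𝟙 G)⁻¹, by rw [GrpObj.comp_inv, Category.comp_id, _root_.inv_inv],
    by rw [GrpObj.comp_inv, Category.comp_id, _root_.inv_inv]⟩
  refine ⟨X, e.hom ≫ P, Cover.iso_comp e hP, hlft, hsep, ?_⟩
  have hiff : ∀ {T : Over (Spec (CommRingCat.of A))} (a b : T ⟶ G),
      a ≫ e.hom ≫ P = b ≫ e.hom ≫ P ↔ ∃ h : T ⟶ H, a = (h ≫ i) * b := fun a b => by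
    rw [← Category.assoc, ← Category.assoc, hk]
    simp only [e, GrpObj.comp_inv, Category.comp_id]
    constructor
    · rintro ⟨h, hh⟩
      exact ⟨h, by rw [← _root_.inv_inv b, hh]; group⟩
    · rintro ⟨h, rfl⟩
      exact ⟨h, by group⟩
  have hmul : ∀ {T : Over (Spec (CommRingCat.of A))} (x : T ⟶ H ⊗ G),
      x ≫ (i ▷ G) ≫ μ[G] = ((x ≫ fst H G) ≫ i) * (x ≫ snd H G) := fun x => by
    rw [Hom.mul_def, ← Category.assoc]
    congr 1
    apply CartesianMonoidalCategory.hom_ext <;> simp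
  have hw : ((i ▷ G) ≫ μ[G]) ≫ e.hom ≫ P = snd H G ≫ e.hom ≫ P := by
    refine (hiff _ _).2 ⟨fst H G, ?_⟩
    have := hmul (𝟙 (H ⊗ G))
    simpa only [Category.id_comp] using this
  have hl : ∀ c : PullbackCone (e.hom ≫ P) (e.hom ≫ P), ∃ h : c.pt ⟶ H, c.fst = (h ≫ i) * c.snd :=
    fun c => (hiff _ _).1 c.condition
  choose l hl using hl
  refine ⟨⟨hw⟩, ⟨PullbackCone.IsLimit.mk _ (fun c => lift (l c) c.snd) (fun c => ?_) (fun c => lift_snd _ _)
    fun c m h1 h2 => ?_⟩⟩
  · rw [hmul, lift_fst, lift_snd, ← hl]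
  · rw [hmul, h2, hl c] at h1
    refine CartesianMonoidalCategory.hom_ext _ _ ?_ (by rw [lift_snd, h2])
    rw [lift_fst, ← cancel_mono i]
    exact mul_right_cancel h1

end Groth.Agent.GrpQuotLib
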