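import Groth.Agent.GrpQuotLib.Group
import Groth.Agent.GrpdThick.Local
import Groth.Agent.S3036
import Groth.Agent.ThickFin.Scheme
import Groth.Agent.GrpSchLib.HomFinite
import Groth.Agent.FpqcDescLib.Diagonal
import Groth.Agent.SrcDescent.SmoothFppf
import Groth.Agent.AlgSpDec.FiniteQuot
import Groth.Prelude.Def_Red

/-! Over an artinian local ring, the quotient of a group scheme by a flat subgroup is a scheme. -/

set_option backward.isDefEq.respectTransparency false
set_option backward.isDefEq.respectTransparency.types false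

universe u

open CategoryTheory Limits AlgebraicGeometry MonoidalCategory CartesianMonoidalCategory MonObj AlgSp
open Groth.Agent.GrpSchLib.BundleQuot Groth.Agent.AlgSpDec

noncomputable section

namespace Groth.Agent.GrpQuotLib

section Thick

theorem isNilpotent_ker_SpecMap {A B : CommRingCat.{u}} (φ : A ⟶ B) (h : IsNilpotent (RingHom.ker φ.hom)) :
    IsNilpotent (Spec.map φ).ker := by
  obtain ⟨n, hn⟩ := h
  refine ⟨n, Scheme.IdealSheafData.ext_of_isAffine ?_⟩
  simp only [Scheme.IdealSheafData.ideal_pow, Scheme.Hom.ker_apply, Scheme.IdealSheafData.zero_eq_bot,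
    Scheme.IdealSheafData.ideal_bot, Pi.bot_apply, Pi.pow_apply]
  rw [eq_bot_iff]
  show RingHom.ker ((Spec.map φ).appTop).hom ^ n ≤ ⊥
  have hk : RingHom.ker ((Spec.map φ).appTop).hom = Ideal.comap (Scheme.ΓSpecIso A).hom.hom (RingHom.ker φ.hom) := by
    rw [RingHom.comap_ker, ← CommRingCat.hom_comp, ← Scheme.ΓSpecIso_naturality, CommRingCat.hom_comp]
    exact (RingHom.ker_comp_of_injective _ (ConcreteCategory.bijective_of_isIso (Scheme.ΓSpecIso B).hom).1).symm
  have hb : Function.Bijective (Scheme.ΓSpecIso A).hom.hom := ConcreteCategory.bijective_of_isIso (Scheme.ΓSpecIso A).hom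
  intro x hx
  have hx' : (Scheme.ΓSpecIso A).hom.hom x ∈ RingHom.ker φ.hom ^ n := by
    have := Ideal.mem_map_of_mem (Scheme.ΓSpecIso A).hom.hom hx
    rw [Ideal.map_pow, hk, Ideal.map_comap_of_surjective _ hb.2] at this
    exact this
  rw [hn, Ideal.zero_eq_bot, Ideal.mem_bot] at hx'
  exact (Ideal.mem_bot).2 (hb.1 (hx'.trans (map_zero _).symm))

variable (A : Type u) [CommRing A] [IsArtinianRing A] [IsLocalRing A]

/-- The closed point of an artinian local base. -/
abbrev resPt : Spec (CommRingCat.of (IsLocalRing.ResidueField A)) ⟶ Spec (CommRingCat.of A) :=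
  Spec.map (CommRingCat.ofHom (IsLocalRing.residue A))

theorem isFiniteOrderThickening_resPt : MoreMor.IsFiniteOrderThickening (resPt A) := by
  refine ⟨⟨IsClosedImmersion.spec_of_surjective _ IsLocalRing.residue_surjective,
    ⟨fun y => ⟨IsLocalRing.closedPoint _, @Subsingleton.elim (PrimeSpectrum A) inferInstance _ _⟩⟩⟩,
    isNilpotent_ker_SpecMap _ ?_⟩
  rw [CommRingCat.hom_ofHom, IsLocalRing.ker_residue]
  show IsNilpotent (IsLocalRing.maximalIdeal A)
  rw [← IsLocalRing.jacobson_eq_maximalIdeal (⊥ : Ideal A) bot_ne_top]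
  exact IsArtinianRing.isNilpotent_jacobson_bot

end Thick

variable {A : Type u} [CommRing A] [IsArtinianRing A] [IsLocalRing A]

/-- The quotient by left cosets exists as a scheme. -/
theorem exists_quotient_artinian {G H : Over (Spec (CommRingCat.of A))} [GrpObj G] [GrpObj H] (i : H ⟶ G)
    [IsMonHom i] [Mono i] [LocallyOfFiniteType G.hom] [Flat H.hom] [LocallyOfFiniteType H.hom]
    [QuasiCompact i.left] :
    ∃ (X : Over (Spec (CommRingCat.of A))) (P : G ⟶ X), Cover P ∧ LocallyOfFiniteType X.hom ∧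
      IsSeparated X.hom ∧ ∀ {T : Over (Spec (CommRingCat.of A))} (a b : T ⟶ G),
        a ≫ P = b ≫ P ↔ ∃ h : T ⟶ H, b = a * (h ≫ i) := by
  let S := Spec (CommRingCat.of A)
  let k := IsLocalRing.ResidueField A
  let ι0 := resPt A
  haveI : IsNoetherianRing A := inferInstance
  haveI : LocallyOfFinitePresentation H.hom := LocallyOfFinitePresentation.iff_locallyOfFiniteType.2 ‹_›
  let Z : Over S := 𝟙_ (Over S)
  obtain ⟨Gp, hU, hR, hes, het, hpU, hpR⟩ := exists_groupoid_over (isPullback_π i Z)
  obtain ⟨GU, GR, pU, pR, gs, gt, ge, gi, gc, h1, h2, h3, h4, h5, h6, h7, h8, h9, h10, h11, h12, h13⟩ := Gp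
  subst hU hR
  obtain rfl : gs = (relS (G := G) (H := H) Z).left := eq_of_heq hes
  obtain rfl : gt = (relT i Z).left := eq_of_heq het
  obtain rfl : pU = (G ⊗ Z).hom := eq_of_heq hpU
  obtain rfl : pR = (relObj (G := G) (H := H) Z).hom := eq_of_heq hpR
  let U : Over S := G ⊗ Z
  let R : Over S := relObj (G := G) (H := H) Z
  let s : R ⟶ U := relS Z
  let t : R ⟶ U := relT i Z
  let Gp : Grpd.GroupoidScheme S :=
    ⟨_, _, _, _, _, _, ge, gi, gc, h1, h2, h3, h4, h5, h6, h7, h8, h9, h10, h11, h12, h13⟩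
  haveI : Mono Gp.j := ⟨fun {T} r r' hrr => by
    have e1 : r ≫ t.left = r' ≫ t.left := by
      simpa [Grpd.GroupoidScheme.j, Gp, t] using hrr =≫ pullback.fst _ _
    have e2 : r ≫ s.left = r' ≫ s.left := by
      simpa [Grpd.GroupoidScheme.j, Gp, s] using hrr =≫ pullback.snd _ _
    have e3 : r' ≫ R.hom = r ≫ R.hom := by rw [← Over.w s, reassoc_of% e2]
    exact congrArg Over.Hom.left ((isEqvRel i Z).injective (Over.mk (r ≫ R.hom)) (Over.homMk r rfl)
      (Over.homMk r' e3) (Over.OverMorphism.ext e1) (Over.OverMorphism.ext e2))⟩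
  haveI : Flat Gp.s := inferInstanceAs (Flat (relS (G := G) (H := H) Z).left)
  haveI : Flat Gp.t := inferInstanceAs (Flat (relT i Z).left)
  haveI : LocallyOfFinitePresentation Gp.s :=
    inferInstanceAs (LocallyOfFinitePresentation (relS (G := G) (H := H) Z).left)
  haveI : LocallyOfFinitePresentation Gp.t := inferInstanceAs (LocallyOfFinitePresentation (relT i Z).left)
  let c₀ := pullback.fst U.hom ι0
  obtain ⟨⟨hci, hsurj⟩, hker⟩ := ThickFin.isFiniteOrderThickening_baseChange (isFiniteOrderThickening_resPt A)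
    (IsPullback.of_hasPullback U.hom ι0)
  -- the relation over the residue field
  let F := Over.pullback ι0
  letI : GrpObj (F.obj G) := Functor.grpObjObj
  letI : GrpObj (F.obj H) := Functor.grpObjObj
  have hbase : ∀ {Y : Over S} (f : R ⟶ Y), IsPullback (pullback.fst R.hom ι0) (F.map f).left f.left
      (pullback.fst Y.hom ι0) := fun {Y} f => by
    have big : IsPullback (pullback.fst R.hom ι0) ((F.map f).left ≫ pullback.snd Y.hom ι0) (f.left ≫ Y.hom) ι0 := by
      rw [show (F.map f).left ≫ pullback.snd Y.hom ι0 = pullback.snd R.hom ι0 from pullback.lift_snd _ _ _,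
        Over.w f]
      exact IsPullback.of_hasPullback _ _
    exact IsPullback.of_bot big (pullback.lift_fst _ _ _).symm (IsPullback.of_hasPullback Y.hom ι0)
  let eS := (hbase s).isoPullback
  let eT := (hbase t).isoPullback
  let ψ : pullback Gp.s c₀ ≅ pullback Gp.t c₀ := eS.symm ≪≫ eT
  have hψ : ψ.hom ≫ pullback.fst Gp.t c₀ = pullback.fst Gp.s c₀ := by
    show (eS.inv ≫ eT.hom) ≫ _ = _
    rw [Category.assoc]
    erw [IsPullback.isoPullback_hom_fst, IsPullback.isoPullback_inv_fst]
  haveI : LocallyOfFiniteType (F.obj G).hom :=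
    inferInstanceAs (LocallyOfFiniteType (pullback.snd G.hom _))
  haveI : LocallyOfFiniteType (F.obj H).hom :=
    inferInstanceAs (LocallyOfFiniteType (pullback.snd H.hom _))
  haveI : IsSeparated (F.obj G).hom := GrpSchLib.AntiAffine.isSeparated_grp (F.obj G)
  haveI : QuasiCompact (F.map i).left :=
    MorphismProperty.overPullbackMap (P := @QuasiCompact) _ i ‹_›
  haveI : Mono (F.map i) := by
    haveI := (Over.mapPullbackAdj ι0).isRightAdjoint
    infer_instance
  obtain ⟨X0, P, hP, -, hPk⟩ := exists_quotient (i := F.map i)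
  let eu : U ≅ G := ⟨fst _ _, lift (𝟙 G) (toUnit G), by
    apply CartesianMonoidalCategory.hom_ext
    · simp
    · exact toUnit_unique _ _, lift_fst _ _⟩
  let P0 : F.obj U ⟶ X0 := (F.mapIso eu).hom ≫ P
  obtain ⟨hP1, hP2, hP3⟩ := Cover.iso_comp (F.mapIso eu) hP
  let adj := Over.mapPullbackAdj ι0
  have hmul : ∀ {T : Over (Spec (CommRingCat.of k))} (x y : (Over.map ι0).obj T ⟶ G),
      adj.homEquiv T G (x * y) = adj.homEquiv T G x * adj.homEquiv T G y := fun x y => by
    simp only [Adjunction.homEquiv_unit]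
    rw [Functor.map_mul, MonObj.comp_mul]
  have hkey : ∀ {T : Over (Spec (CommRingCat.of k))} (a b : T ⟶ F.obj U), a ≫ P0 = b ≫ P0 →
      ∃ r : T ⟶ F.obj R, r ≫ F.map t = a ∧ r ≫ F.map s = b := fun {T} a b hab => by
    rw [eq_comm, ← Category.assoc, ← Category.assoc, hPk] at hab
    obtain ⟨h, hh⟩ := hab
    obtain ⟨a, rfl⟩ := (adj.homEquiv T U).surjective a
    obtain ⟨b, rfl⟩ := (adj.homEquiv T U).surjective b
    obtain ⟨h, rfl⟩ := (adj.homEquiv T H).surjective h
    have hh' : a ≫ fst G Z = (b ≫ fst G Z) * (h ≫ i) := (adj.homEquiv T G).injective (by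
      rw [hmul, Adjunction.homEquiv_naturality_right, Adjunction.homEquiv_naturality_right,
        Adjunction.homEquiv_naturality_right]
      exact hh)
    obtain ⟨r, hr1, hr2⟩ := (rel_iff i Z b a).1 ⟨toUnit_unique _ _, h, hh'⟩
    exact ⟨adj.homEquiv T R r, by rw [← Adjunction.homEquiv_naturality_right, hr1],
      by rw [← Adjunction.homEquiv_naturality_right, hr2]⟩
  have hw : F.map t ≫ P0 = F.map s ≫ P0 := by
    rw [eq_comm]
    simp only [P0, ← Category.assoc]
    rw [hPk]
    refine ⟨F.map (fst _ _ ≫ snd G H), ?_⟩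
    rw [Functor.mapIso_hom, ← F.map_comp, ← F.map_comp, ← F.map_comp, ← Functor.map_mul]
    congr 1
    simp only [t, s, eu, relT, relS, whiskerRight_fst, Category.assoc]
    rw [← MonObj.comp_mul, Hom.mul_def]
    congr 1
  -- cartesian
  have sqP : IsPullback (F.map t) (F.map s) P0 P0 := by
    refine ⟨⟨hw⟩, ⟨PullbackCone.IsLimit.mk _ (fun c => (hkey c.fst c.snd c.condition).choose)
      (fun c => (hkey c.fst c.snd c.condition).choose_spec.1)
      (fun c => (hkey c.fst c.snd c.condition).choose_spec.2) (fun c m hm1 hm2 => ?_)⟩⟩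
    obtain ⟨hr1, hr2⟩ := (hkey c.fst c.snd c.condition).choose_spec
    apply (adj.homEquiv c.pt R).symm.injective
    refine (isEqvRel i Z).injective _ _ _ ?_ ?_
    · rw [← Adjunction.homEquiv_naturality_right_symm, ← Adjunction.homEquiv_naturality_right_symm, hm1, hr1]
    · rw [← Adjunction.homEquiv_naturality_right_symm, ← Adjunction.homEquiv_naturality_right_symm, hm2, hr2]
  haveI := hP1; haveI := hP2; haveI := hP3
  have h₀ : IsPullback (ψ.hom ≫ pullback.snd Gp.t c₀) (pullback.snd Gp.s c₀) P0.left P0.left := by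
    refine (sqP.map (Over.forget _)).of_iso eS (Iso.refl _) (Iso.refl _) (Iso.refl _) ?_ ?_ (by simp) (by simp)
    · show (F.map t).left ≫ 𝟙 _ = eS.hom ≫ (eS.inv ≫ eT.hom) ≫ pullback.snd _ _
      rw [Category.comp_id, Category.assoc, Iso.hom_inv_id_assoc]
      exact (IsPullback.isoPullback_hom_snd _).symm
    · show (F.map s).left ≫ 𝟙 _ = eS.hom ≫ pullback.snd _ _
      rw [Category.comp_id]
      exact (IsPullback.isoPullback_hom_snd _).symm
  haveI := hci; haveI := hsurj
  obtain ⟨Y, p, hp1, hp2, hp3, sq⟩ :=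
    GrpdThick.exists_quotient_of_thickening Gp c₀ ψ hψ hker h₀
  -- the structure morphism
  obtain ⟨q, hq, -⟩ := (FpqcDescLib.covers_of_isCovering (FpqcDescLib.isCovering_of_lfp p)).desc U.hom
    fun T a b hab => by
      obtain ⟨r, hr1, hr2⟩ := sq.exists_lift a b hab
      rw [← hr1, ← hr2, Category.assoc, Category.assoc]
      exact congrArg (r ≫ ·) ((Over.w t).trans (Over.w s).symm)
  let X : Over S := Over.mk q
  let p' : U ⟶ X := Over.homMk p hq
  have hcp : Cover p' := ⟨hp2, hp1, hp3⟩
  have hsqU : IsPullback t s p' p' := IsPullback.of_map (Over.forget S) (Over.OverMorphism.ext sq.w) sq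
  have hcoset : ∀ {T : Over S} (a b : T ⟶ G),
      a ≫ eu.inv ≫ p' = b ≫ eu.inv ≫ p' ↔ ∃ h : T ⟶ H, b = a * (h ≫ i) := fun {T} a b => by
    constructor
    · intro hab
      obtain ⟨r, hr1, hr2⟩ := hsqU.exists_lift (b ≫ eu.inv) (a ≫ eu.inv) (by
        rw [Category.assoc, Category.assoc, hab])
      obtain ⟨-, h, hh⟩ := (rel_iff i Z (a ≫ eu.inv) (b ≫ eu.inv)).2 ⟨r, hr1, hr2⟩
      simp only [eu, Category.assoc, lift_fst, Category.comp_id] at hh
      exact ⟨h, hh⟩
    · rintro ⟨h, hh⟩
      obtain ⟨r, hr1, hr2⟩ := (rel_iff i Z (a ≫ eu.inv) (b ≫ eu.inv)).1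
        ⟨toUnit_unique _ _, h, by simpa only [eu, Category.assoc, lift_fst, Category.comp_id] using hh⟩
      rw [← Category.assoc, ← Category.assoc b, ← hr1, ← hr2, Category.assoc, Category.assoc, hsqU.w]
  haveI : LocallyOfFiniteType Z.hom := inferInstanceAs (LocallyOfFiniteType (𝟙 S))
  haveI : IsSeparated Z.hom := inferInstanceAs (IsSeparated (𝟙 S))
  haveI : Flat p'.left := hp2; haveI : Surjective p'.left := hp1; haveI : LocallyOfFinitePresentation p'.left := hp3
  refine ⟨X, eu.inv ≫ p', Cover.iso_comp eu.symm hcp, ?_, ?_, hcoset⟩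
  · haveI : LocallyOfFiniteType U.hom := inferInstanceAs (LocallyOfFiniteType (pullback.fst G.hom Z.hom ≫ G.hom))
    haveI : LocallyOfFiniteType (p ≫ q) := by rw [hq]; infer_instance
    exact SrcDescent.locallyOfFiniteType_of_fppf_comp (f := p) (g := q)
  · haveI : IsClosedImmersion i.left := S3036.result A H G i
    haveI : IsSeparated G.hom := GrpSchLib.HomFinite.isSeparated G
    haveI : IsSeparated U.hom := inferInstanceAs (IsSeparated (pullback.fst G.hom Z.hom ≫ G.hom))
    haveI : IsClosedImmersion (lift t s).left := by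
      haveI : IsSeparated Z.hom := inferInstanceAs (IsSeparated (𝟙 S))
      haveI := isClosedImmersion_mulFst (G := G) (Z := Z)
      haveI := property_whiskerLeft_whiskerRight (Z := Z) (i := i) @IsClosedImmersion ‹_›
      show IsClosedImmersion (lift (relT i Z) (relS Z)).left
      rw [lift_rel_eq, Over.comp_left]
      infer_instance
    exact FpqcDescLib.isSeparated_of_isClosedImmersion_graph
      (FpqcDescLib.covers_of_isCovering (FpqcDescLib.isCovering_of_lfp p'.left)) hsqU

end Groth.Agent.GrpQuotLib
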