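import Mathlib.AlgebraicGeometry.Limits
import Mathlib.AlgebraicGeometry.AffineScheme
import Mathlib.AlgebraicGeometry.Noetherian

/-! A noetherian scheme has a dense affine open. -/

universe u

open CategoryTheory Limits AlgebraicGeometry TopologicalSpace

namespace Groth.Agent.GrpQuotLib

theorem exists_dense_affineOpen (X : Scheme.{u}) [NoetherianSpace X] :
    ∃ U : X.Opens, IsAffineOpen U ∧ Dense (U : Set X) := by
  classical
  let C := irreducibleComponents (X : Type u)
  have hfin : C.Finite := NoetherianSpace.finite_irreducibleComponents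
  haveI : Finite C := hfin.to_subtype
  let O : C → Set X := fun Z => (⋃₀ (C \ {(Z : Set X)}))ᶜ
  have hO : ∀ Z, IsOpen (O Z) := fun Z => by
    refine IsClosed.isOpen_compl (s := ⋃₀ (C \ {(Z : Set X)})) (self := ?_)
    rw [Set.sUnion_eq_biUnion]
    exact (hfin.subset Set.sdiff_subset).isClosed_biUnion fun W hW => isClosed_of_mem_irreducibleComponents W hW.1
  have hmem : ∀ (Z : C) x, x ∈ O Z → ∀ W ∈ C, x ∈ W → W = Z := fun Z x hx W hW hxW => by
    by_contra hne
    exact hx ⟨W, ⟨hW, hne⟩, hxW⟩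
  have hgen : ∀ Z : C, IsGenericPoint (Z.2.1.genericPoint) (Z : Set X) := fun Z => by
    have := Z.2.1.isGenericPoint_genericPoint_closure
    rwa [(isClosed_of_mem_irreducibleComponents _ Z.2).closure_eq] at this
  have hη : ∀ Z : C, Z.2.1.genericPoint ∈ O Z := fun Z hx => by
    obtain ⟨W, ⟨hW, hne⟩, hxW⟩ := hx
    refine hne (Z.2.eq_of_ge hW.1 ?_)
    rw [← (hgen Z).def]
    exact closure_minimal (Set.singleton_subset_iff.2 hxW) (isClosed_of_mem_irreducibleComponents _ hW)
  have : ∀ Z : C, ∃ V : X.Opens, IsAffineOpen V ∧ Z.2.1.genericPoint ∈ V ∧ (V : Set X) ⊆ O Z := fun Z => by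
    obtain ⟨_, ⟨V, hV, rfl⟩, h1, h2⟩ := X.isBasis_affineOpens.exists_subset_of_mem_open (hη Z) (hO Z)
    exact ⟨V, hV, h1, h2⟩
  choose V hV hVη hVO using this
  have hdisj : Pairwise (Function.onFun Disjoint fun Z => Set.range ((V Z).ι).base) := fun Z Z' hne => by
    simp only [Function.onFun, Scheme.Opens.range_ι]
    rw [Set.disjoint_left]
    intro x hx hx'
    obtain ⟨W, hW, hxW⟩ : ∃ W ∈ C, x ∈ W :=
      ⟨irreducibleComponent x, irreducibleComponent_mem_irreducibleComponents x, mem_irreducibleComponent⟩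
    exact hne (Subtype.ext ((hmem Z x (hVO Z hx) W hW hxW).symm.trans (hmem Z' x (hVO Z' hx') W hW hxW)))
  haveI : ∀ Z, IsAffine (V Z : Scheme.{u}) := hV
  haveI := isOpenImmersion_sigmaDesc (fun Z : C => (V Z : Scheme.{u})) (fun Z => (V Z).ι) hdisj
  refine ⟨(Sigma.desc fun Z => (V Z).ι).opensRange, isAffineOpen_opensRange _, dense_iff_inter_open.2 ?_⟩
  rintro W hW ⟨x, hx⟩
  let Z : C := ⟨irreducibleComponent x, irreducibleComponent_mem_irreducibleComponents x⟩
  have hsp : Z.2.1.genericPoint ⤳ x := (hgen Z).specializes mem_irreducibleComponent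
  refine ⟨_, hsp.mem_open hW hx, (Sigma.ι (fun Z : C => (V Z : Scheme.{u})) Z).base ⟨_, hVη Z⟩, ?_⟩
  rw [← Scheme.Hom.comp_apply, Sigma.ι_desc]
  rfl

end Groth.Agent.GrpQuotLib
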