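import Groth.Agent.GrpQuotLib.Ops
import Groth.Agent.AlgSpDec.FinLocFreeQuot
import Groth.Agent.EtFound.Descent
import Groth.Agent.GrpSchLib.RankOneBig
import Groth.Agent.SrcDescent.SchemeFppf

/-! Descent of open quotients along a finite locally free cover of the auxiliary base. -/

set_option backward.isDefEq.respectTransparency false
set_option backward.isDefEq.respectTransparency.types false

universe u

open CategoryTheory Limits AlgebraicGeometry MonoidalCategory CartesianMonoidalCategory MonObj AlgSp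
open Groth.Agent.AlgSpLib Groth.Agent.AlgSpPts Groth.Agent.AlgSpDec Groth.Agent.GrpSchLib.BundleQuot
  Groth.Agent.GrpSchLib.TopDescent

noncomputable section

namespace Groth.Agent.GrpQuotLib

variable {S : Scheme.{u}}

theorem isLocallySurjective_yon_map {W X : Over S} {p : W ⟶ X} (h : Cover p) :
    Sheaf.IsLocallySurjective ((yon S).map p) := by
  obtain ⟨h1, h2, h3⟩ := h
  exact isLocallySurjective_of_lifts _ fun T g => by
    obtain ⟨g, rfl⟩ := (yon S).map_surjective g
    exact ⟨pullback p g, pullback.snd p g, (yon S).map (pullback.fst p g),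
      MorphismProperty.of_isPullback ((IsPullback.of_hasPullback p g).map (Over.forget S)) (fppf_of p.left),
      by rw [← Functor.map_comp, ← Functor.map_comp, pullback.condition]⟩

theorem Cover.baseChange {W X T : Over S} {p : W ⟶ X} (h : Cover p) (g : T ⟶ X) : Cover (pullback.snd p g) := by
  have sq := (IsPullback.of_hasPullback p g).map (Over.forget S)
  exact ⟨MorphismProperty.of_isPullback (P := @Flat) sq h.1,
    MorphismProperty.of_isPullback (P := @Surjective) sq h.2.1,
    MorphismProperty.of_isPullback (P := @LocallyOfFinitePresentation) sq h.2.2⟩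

theorem cover_fst {Z : Over S} [Flat Z.hom] [Surjective Z.hom] [LocallyOfFinitePresentation Z.hom] (O : Over S) :
    Cover (fst O Z) := by
  have sq := (IsPullback.of_hasPullback O.hom Z.hom).flip
  exact ⟨MorphismProperty.of_isPullback (P := @Flat) sq ‹_›,
    MorphismProperty.of_isPullback (P := @Surjective) sq ‹_›,
    MorphismProperty.of_isPullback (P := @LocallyOfFinitePresentation) sq ‹_›⟩

/-- Points in a finite fibre over a closed point are closed. -/
theorem isClosed_singleton_of_isFinite {R V : Scheme.{u}} (s : R ⟶ V) [IsFinite s] {r : R}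
    (h : IsClosed ({s r} : Set V)) : IsClosed ({r} : Set R) := by
  have hd : _root_.IsDiscrete (s ⁻¹' {s r}) := s.isDiscrete_preimage Set.subsingleton_singleton.isDiscrete
  have hcl : IsClosed (s ⁻¹' {s r}) := h.preimage s.continuous
  haveI := hd.to_subtype
  have h1 := hcl.isClosedEmbedding_subtypeVal.isClosedMap _ (isClosed_discrete ({⟨r, rfl⟩} : Set (s ⁻¹' {s r})))
  simpa using h1

variable {G H : Over S} [GrpObj G] [GrpObj H] {i : H ⟶ G} [IsMonHom i] [Mono i]
  [Flat H.hom] [LocallyOfFinitePresentation H.hom]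

theorem IsOpenQuot.descend {O Z V : Over S} (o : O ⟶ G) [IsOpenImmersion o.left] [IsFinite Z.hom] [Flat Z.hom]
    [Surjective Z.hom] [LocallyOfFinitePresentation Z.hom] {p : O ⊗ Z ⟶ V} (h : IsOpenQuot i Z (o ▷ Z) p)
    (hAF : ∀ F : Set V.left, F.Finite → (∀ v ∈ F, IsClosed ({v} : Set V.left)) →
      ∃ A : V.left.Opens, IsAffineOpen A ∧ F ⊆ A)
    (hcl : ∀ C : Set V.left, IsClosed C → C.Nonempty → ∃ v ∈ C, IsClosed ({v} : Set V.left)) :
    ∃ (M : Over S) (q : O ⟶ M), IsOpenQuot i (𝟙_ (Over S)) (lift o (toUnit O)) q := by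
  let e : O ⟶ G ⊗ 𝟙_ (Over S) := lift o (toUnit O)
  let πO : (yon S).obj O ⟶ Q i (𝟙_ (Over S)) := (yon S).map e ≫ π i (𝟙_ (Over S))
  haveI : Mono o := (Over.forget S).mono_of_mono_map (inferInstanceAs (Mono o.left))
  have hco : Cover (fst O Z) := cover_fst O
  have hrel : ∀ {T : Over S} (a b : T ⟶ G ⊗ 𝟙_ (Over S)),
      Rel i (𝟙_ (Over S)) a b ↔ ∃ t : T ⟶ H, b ≫ fst _ _ = (a ≫ fst _ _) * (t ≫ i) :=
    fun a b => ⟨And.right, fun h => ⟨toUnit_unique _ _, h⟩⟩
  have hrelZ : ∀ {T : Over S} (a b : T ⟶ O ⊗ Z), Rel i Z (a ≫ o ▷ Z) (b ≫ o ▷ Z) ↔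
      a ≫ snd O Z = b ≫ snd O Z ∧ Rel i (𝟙_ (Over S)) ((a ≫ fst O Z) ≫ e) ((b ≫ fst O Z) ≫ e) := fun a b => by
    rw [hrel]
    simp only [Rel, e, Category.assoc, whiskerRight_fst, whiskerRight_snd, lift_fst]
  haveI hlsp : Sheaf.IsLocallySurjective ((yon S).map p) := isLocallySurjective_yon_map h.cover
  have sqp : IsPullback ((yon S).map (pullback.fst p p)) ((yon S).map (pullback.snd p p)) ((yon S).map p)
      ((yon S).map p) := (IsPullback.of_hasPullback p p).map (yon S)
  obtain ⟨a, ha⟩ := exists_desc_of_kernelPair sqp ((yon S).map (fst O Z) ≫ πO) (by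
    simp only [πO, ← Functor.map_comp_assoc]
    rw [π_eq_iff]
    have := ((hrelZ _ _).1 ((h.kernel _ _).1 (pullback.condition (f := p) (g := p)))).2
    simpa only [Category.assoc] using this)
  have key : ∀ {T : Over S} (x y : T ⟶ O ⊗ Z), x ≫ snd O Z = y ≫ snd O Z →
      ((yon S).map (x ≫ fst O Z) ≫ πO = (yon S).map (y ≫ fst O Z) ≫ πO ↔ x ≫ p = y ≫ p) := fun x y hxy => by
    simp only [πO, ← Functor.map_comp_assoc]
    rw [π_eq_iff, h.kernel, hrelZ]
    exact ⟨fun h => ⟨hxy, h⟩, fun h => h.2⟩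
  have sq0 : IsPullback ((yon S).map p) ((yon S).map (fst O Z)) a πO := by
    let κ := pullback.lift (f := a) (g := πO) ((yon S).map p) ((yon S).map (fst O Z)) ha
    haveI : Mono κ := mono_of_yon_injective fun T x y hxy => by
      obtain ⟨x, rfl⟩ := (yon S).map_surjective x
      obtain ⟨y, rfl⟩ := (yon S).map_surjective y
      have h1 := hxy =≫ pullback.fst a πO
      have h2 := hxy =≫ pullback.snd a πO
      simp only [Category.assoc, κ, pullback.lift_fst, pullback.lift_snd, ← Functor.map_comp] at h1 h2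
      have h3 := ((hrelZ _ _).1 ((h.kernel _ _).1 ((yon S).map_injective h1))).1
      rw [CartesianMonoidalCategory.hom_ext x y ((yon S).map_injective h2) h3]
    haveI : Sheaf.IsLocallySurjective κ := isLocallySurjective_of_lifts κ fun T ξ => by
      obtain ⟨v, hv⟩ := (yon S).map_surjective (ξ ≫ pullback.fst a πO)
      obtain ⟨g, hg⟩ := (yon S).map_surjective (ξ ≫ pullback.snd a πO)
      let φ := pullback.snd p v
      let x := pullback.fst p v
      let y : pullback p v ⟶ O ⊗ Z := lift (φ ≫ g) (x ≫ snd O Z)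
      obtain ⟨h1, h2, h3⟩ := Cover.baseChange h.cover v
      have hyp : y ≫ p = x ≫ p := by
        refine (key y x (lift_snd _ _)).1 ?_
        rw [show y ≫ fst O Z = φ ≫ g from lift_fst _ _, Functor.map_comp, Category.assoc, hg, Category.assoc,
          ← pullback.condition, ← Category.assoc ξ, ← hv, ← Functor.map_comp_assoc, ← pullback.condition,
          Functor.map_comp, Category.assoc, ha, Functor.map_comp, Category.assoc]
      refine ⟨pullback p v, φ, (yon S).map y, fppf_of φ.left, pullback.hom_ext ?_ ?_⟩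
      · simp only [Category.assoc, κ, pullback.lift_fst]
        rw [← Functor.map_comp, hyp, pullback.condition, Functor.map_comp, hv]
      · simp only [Category.assoc, κ, pullback.lift_snd]
        rw [← Functor.map_comp, lift_fst, Functor.map_comp, hg]
    haveI := isIso_of_mono_of_locallySurjective κ
    exact (IsPullback.of_hasPullback a πO).of_iso (asIso κ).symm (Iso.refl _) (Iso.refl _) (Iso.refl _)
      (by simp [κ]) (by simp [κ]) (by simp) (by simp)
  have hra : Representable a := representable_from_yon' (isAlgSpace_Q i _) a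
  let t := hra.fst' a
  let s := hra.snd a
  have sq : IsPullback ((yon S).map t) ((yon S).map s) a a := hra.isPullback' a
  have hs : Mor2.IsFinLocFree s.left := by
    let R' := pullback s p
    have sqR : IsPullback ((yon S).map (pullback.fst s p)) ((yon S).map (pullback.snd s p)) ((yon S).map s)
        ((yon S).map p) := (IsPullback.of_hasPullback s p).map (yon S)
    have sqA := sqR.paste_horiz sq
    have sqB := ((IsPullback.of_hasPullback (fst O Z) (fst O Z)).map (yon S)).paste_horiz sq0
    rw [← ha] at sqB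
    let iso := sqA.isoIsPullback _ _ sqB
    have hiso : iso.hom ≫ (yon S).map (pullback.snd (fst O Z) (fst O Z)) = (yon S).map (pullback.snd s p) :=
      sqA.isoIsPullback_hom_snd _ _ sqB
    have hP : ∀ (P : MorphismProperty Scheme.{u}) [P.IsStableUnderBaseChange]
        [P.IsLocalAtTarget Scheme.fppfPrecoverage], P Z.hom → P s.left := by
      intro P _ _ hPZ
      have hfst : P (fst O Z).left := MorphismProperty.of_isPullback (IsPullback.of_hasPullback O.hom Z.hom).flip hPZ
      have h2 : P (pullback.snd (fst O Z) (fst O Z)).left :=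
        MorphismProperty.of_isPullback ((IsPullback.of_hasPullback (fst O Z) (fst O Z)).map (Over.forget S)) hfst
      refine (repWith_yon_map_iff P s).1
        (repWith_of_locallySurjective (representable_yon_map s) ((yon S).map p) sqR P ?_)
      rw [← hiso]
      exact (MorphismProperty.cancel_left_of_respectsIso (RepWith P) iso.hom _).2 ((repWith_yon_map_iff P _).2 h2)
    haveI := EtFound.fpqc_isFinite.{u}
    haveI := isLocalAtTarget_fppf (@IsFinite : MorphismProperty Scheme.{u})
    haveI := isLocalAtTarget_fppf (@Flat : MorphismProperty Scheme.{u})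
    haveI := isLocalAtTarget_fppf (@LocallyOfFinitePresentation : MorphismProperty Scheme.{u})
    exact ⟨hP @IsFinite ‹_›, hP @Flat ‹_›, hP @LocallyOfFinitePresentation ‹_›⟩
  obtain ⟨Gp, hU, hR, hes, het, hpU, hpR⟩ := exists_groupoid_over sq
  obtain ⟨GU, GR, pU, pR, gs, gt, ge, gi, gc, h1, h2, h3, h4, h5, h6, h7, h8, h9, h10, h11, h12, h13⟩ := Gp
  subst hU hR
  obtain rfl : gs = s.left := eq_of_heq hes
  obtain rfl : gt = t.left := eq_of_heq het
  obtain rfl : pU = V.hom := eq_of_heq hpU
  obtain rfl : pR = (hra.pullback a).hom := eq_of_heq hpR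
  let Gp : Grpd.GroupoidScheme S :=
    ⟨_, _, _, _, _, _, ge, gi, gc, h1, h2, h3, h4, h5, h6, h7, h8, h9, h10, h11, h12, h13⟩
  have heq : AlgSp.IsEqvRel s t := ⟨fun T r r' ht hs' => (yon S).map_injective (sq.hom_ext
      (by rw [← Functor.map_comp, ← Functor.map_comp, ht]) (by rw [← Functor.map_comp, ← Functor.map_comp, hs'])),
    fun T => by
      have hiff : ∀ x y : T ⟶ V, (∃ r : T ⟶ hra.pullback a, r ≫ t = x ∧ r ≫ s = y) ↔
          (yon S).map x ≫ a = (yon S).map y ≫ a := fun x y => by
        refine ⟨?_, exists_rel_lift sq x y⟩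
        rintro ⟨r, rfl, rfl⟩
        rw [Functor.map_comp, Functor.map_comp, Category.assoc, Category.assoc, sq.w]
      refine ⟨fun x => (hiff x x).2 rfl, fun {x y} h => (hiff y x).2 ((hiff x y).1 h).symm,
        fun {x y z} h h' => (hiff x z).2 (((hiff x y).1 h).trans ((hiff y z).1 h'))⟩⟩
  obtain ⟨M, m, hm, hms, hmk, -⟩ := AlgSpDec.FinLocFreeQuot.exists_quotient Gp hs heq (fun C hC hne => by
    obtain ⟨u, huC, hu⟩ := hcl C hC hne
    haveI : IsFinite Gp.s := hs.1
    have hti : IsFinite Gp.t := by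
      rw [← Gp.i_s]
      haveI : IsIso Gp.i := ⟨Gp.i, rel_ext sq (by simp [show Gp.i ≫ t.left = s.left from Gp.i_t,
          show Gp.i ≫ s.left = t.left from Gp.i_s, Gp])
        (by simp [show Gp.i ≫ t.left = s.left from Gp.i_t, show Gp.i ≫ s.left = t.left from Gp.i_s, Gp]),
        rel_ext sq (by simp [show Gp.i ≫ t.left = s.left from Gp.i_t,
          show Gp.i ≫ s.left = t.left from Gp.i_s, Gp])
        (by simp [show Gp.i ≫ t.left = s.left from Gp.i_t, show Gp.i ≫ s.left = t.left from Gp.i_s, Gp])⟩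
      infer_instance
    obtain ⟨A, hA, hFA⟩ := hAF (Gp.t '' (Gp.s ⁻¹' {u})) ((Gp.s.finite_preimage_singleton u).image _) (by
      rintro _ ⟨r, hr, rfl⟩
      have hr' : IsClosed ({r} : Set Gp.R) := isClosed_singleton_of_isFinite Gp.s (by
        rw [show Gp.s r = u from hr]; exact hu)
      simpa using Gp.t.isClosedMap _ hr')
    exact ⟨u, huC, A, hA, fun r hr => hFA ⟨r, hr, rfl⟩⟩)
  let m' : V ⟶ M := m
  have hmc : Cover m' := ⟨hm.2.1, hms, hm.2.2⟩
  have hmK : IsPullback t s m' m' := IsPullback.of_map (Over.forget S) (Over.OverMorphism.ext hmk.w) hmk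
  have hmiff : ∀ {T : Over S} (x y : T ⟶ V), x ≫ m' = y ≫ m' ↔ (yon S).map x ≫ a = (yon S).map y ≫ a :=
    fun x y => by
    refine ⟨fun hxy => ?_, fun hxy => ?_⟩
    · rw [← hmK.lift_fst x y hxy, Functor.map_comp, Category.assoc, sq.w, ← Category.assoc, ← Functor.map_comp,
        hmK.lift_snd]
    · obtain ⟨r, h1, h2⟩ := exists_rel_lift sq x y hxy
      rw [← h1, ← h2, Category.assoc, Category.assoc, hmK.w]
  have hcomp : ∀ {T : Over S} (x y : T ⟶ O ⊗ Z), x ≫ p ≫ m' = y ≫ p ≫ m' ↔
      Rel i (𝟙_ (Over S)) ((x ≫ fst O Z) ≫ e) ((y ≫ fst O Z) ≫ e) := fun x y => by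
    rw [← Category.assoc, ← Category.assoc y, hmiff, Functor.map_comp, Functor.map_comp, Category.assoc,
      Category.assoc, ha]
    simp only [πO, ← Functor.map_comp_assoc]
    rw [π_eq_iff, Category.assoc, Category.assoc]
  obtain ⟨q, hq, -⟩ := hco.hasLocSec.existsUnique_desc (p ≫ m') (fun T x y hxy => (hcomp x y).2 (by
    rw [hxy]
    exact (hrel _ _).2 ⟨1, by rw [MonObj.one_comp, _root_.mul_one]⟩))
  have hqc : Cover q := by
    obtain ⟨c1, c2, c3⟩ := h.cover.comp hmc
    obtain ⟨d1, d2, d3⟩ := hco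
    have hcq : (fst O Z).left ≫ q.left = (p ≫ m').left := by rw [← Over.comp_left, hq]
    have e1 : Flat ((fst O Z).left ≫ q.left) := by rw [hcq]; exact c1
    have e2 : Surjective ((fst O Z).left ≫ q.left) := by rw [hcq]; exact c2
    have e3 : LocallyOfFinitePresentation ((fst O Z).left ≫ q.left) := by rw [hcq]; exact c3
    exact ⟨Groth.Agent.GrpSchLib.RankOne.flat_of_comp (fst O Z).left q.left,
      Surjective.of_comp (fst O Z).left q.left,
      Groth.Agent.SrcDescent.locallyOfFinitePresentation_of_fppf_comp (f := (fst O Z).left) (g := q.left)⟩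
  refine ⟨M, q, ⟨?_, hqc, fun x b hxb => ?_, fun x y => ?_⟩⟩
  · haveI : IsIso (fst G (𝟙_ (Over S))) := by
      rw [← rightUnitor_hom]; infer_instance
    haveI : IsIso (fst G (𝟙_ (Over S))).left :=
      inferInstanceAs (IsIso ((Over.forget S).map (fst G (𝟙_ (Over S)))))
    have hoe : (lift o (toUnit O)).left ≫ (fst G (𝟙_ (Over S))).left = o.left := by
      rw [← Over.comp_left, lift_fst]
    have : IsOpenImmersion ((lift o (toUnit O)).left ≫ (fst G (𝟙_ (Over S))).left) := by
      rw [hoe]; infer_instance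
    exact (MorphismProperty.cancel_right_of_respectsIso (P := @IsOpenImmersion) _ _).1 this
  · obtain ⟨T', c, x', hc, hx'⟩ := Cover.lift hco x
    obtain ⟨b', hb'⟩ := h.stable x' (lift (c ≫ b ≫ fst _ _) (x' ≫ snd O Z)) (by
      obtain ⟨t, ht⟩ := ((hrel _ _).1 hxb)
      refine ⟨by simp, c ≫ t, ?_⟩
      rw [lift_fst, ht]
      simp only [MonObj.comp_mul, Category.assoc, whiskerRight_fst, ← reassoc_of% hx', lift_fst])
    obtain ⟨l, hl, -⟩ := hc.hasLocSec.existsUnique_desc (b' ≫ fst O Z) (fun T₁ u₁ u₂ hu => by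
      rw [← cancel_mono o, Category.assoc, Category.assoc, Category.assoc, Category.assoc,
        show b' ≫ fst O Z ≫ o = c ≫ b ≫ fst _ _ from by
          have := hb' =≫ fst G Z
          simpa only [Category.assoc, whiskerRight_fst, lift_fst] using this, reassoc_of% hu])
    refine ⟨l, CartesianMonoidalCategory.hom_ext _ _ (hc.hasLocSec.hom_ext ?_) (toUnit_unique _ _)⟩
    rw [Category.assoc, lift_fst, reassoc_of% hl]
    have := hb' =≫ fst G Z
    simpa only [Category.assoc, whiskerRight_fst, lift_fst] using this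
  · obtain ⟨T', c, x', hc, hx'⟩ := Cover.lift hco x
    obtain ⟨T'', c', y', hc', hy'⟩ := Cover.lift hco (c ≫ y)
    have hcc := hc'.comp hc
    have ex : (c' ≫ x') ≫ fst O Z = (c' ≫ c) ≫ x := by rw [Category.assoc, hx', Category.assoc]
    have ey : y' ≫ fst O Z = (c' ≫ c) ≫ y := by rw [hy', Category.assoc]
    have step : (c' ≫ c) ≫ x ≫ q = (c' ≫ c) ≫ y ≫ q ↔
        Rel i (𝟙_ (Over S)) (((c' ≫ c) ≫ x) ≫ e) (((c' ≫ c) ≫ y) ≫ e) := by
      rw [← ex, ← ey, ← hcomp, ← Category.assoc (c' ≫ c), ← Category.assoc (c' ≫ c), ← ex, ← ey,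
        Category.assoc _ (fst O Z), Category.assoc _ (fst O Z), hq]
    constructor
    · intro hxy
      refine (π_eq_iff i _ _ _).1 (hom_ext_of_fppf (c' ≫ c) ?_ _ _ ?_)
      · obtain ⟨f1, f2, f3⟩ := hcc
        exact fppf_of _
      · rw [← Functor.map_comp_assoc, ← Functor.map_comp_assoc, π_eq_iff, ← Category.assoc,
          ← Category.assoc (c' ≫ c)]
        exact step.1 (by rw [hxy])
    · intro hxy
      refine hcc.hasLocSec.hom_ext (step.2 ?_)
      obtain ⟨t, ht⟩ := (hrel _ _).1 hxy
      refine (hrel _ _).2 ⟨(c' ≫ c) ≫ t, ?_⟩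
      have ht' : y ≫ lift o (toUnit O) ≫ fst _ _ = x ≫ lift o (toUnit O) ≫ fst _ _ * t ≫ i := by
        simpa only [Category.assoc] using ht
      simp only [e, Category.assoc, ht', MonObj.comp_mul]

end Groth.Agent.GrpQuotLib
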