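import Groth.Agent.FpqcDescLib.Group
import Mathlib.AlgebraicGeometry.AlgClosed.Basic
import Mathlib.AlgebraicGeometry.Morphisms.UniversallyOpen
import Mathlib.AlgebraicGeometry.Morphisms.Flat
import Mathlib.AlgebraicGeometry.Morphisms.QuasiFinite
import Mathlib.AlgebraicGeometry.Noetherian
import Mathlib.FieldTheory.IsAlgClosed.AlgebraicClosure

/-! Geometric points of schemes locally of finite type over a field; they are defined over finite
extensions. -/

set_option backward.isDefEq.respectTransparency false
set_option backward.isDefEq.respectTransparency.types false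

universe u

open CategoryTheory Limits AlgebraicGeometry MonoidalCategory CartesianMonoidalCategory

noncomputable section

namespace Groth.Agent.GrpQuotLib

variable {k : Type u} [Field k]

variable (k) in
/-- The algebraic closure as an object over `Spec k`. -/
abbrev omega : Over (Spec (.of k)) :=
  Over.mk (Spec.map (CommRingCat.ofHom (algebraMap k (AlgebraicClosure k))))

variable (k) in
/-- The point of the algebraic closure. -/
abbrev omegaPt : (omega k).left := IsLocalRing.closedPoint (AlgebraicClosure k)

theorem eq_omegaPt (t : (omega k).left) : t = omegaPt k :=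
  @Subsingleton.elim (PrimeSpectrum (AlgebraicClosure k)) _ t _

instance : Subsingleton (Spec (.of k)) := inferInstanceAs (Subsingleton (PrimeSpectrum k))

instance : IsIntegralHom (omega k).hom := by
  show IsIntegralHom (Spec.map _)
  rw [IsIntegralHom.SpecMap_iff]
  exact fun x => Algebra.IsIntegral.isIntegral (R := k) x

/-- The spectrum of a finite field extension. -/
structure IsPt (Z : Over (Spec (.of k))) : Prop where
  fin : IsFinite Z.hom
  sub : Subsingleton Z.left
  int : IsIntegral Z.left

namespace IsPt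

variable {Z : Over (Spec (.of k))} (h : IsPt Z)
include h

theorem flat : Flat Z.hom := inferInstance

theorem surjective : Surjective Z.hom := by
  haveI := h.int
  exact ⟨fun x => ⟨Classical.arbitrary Z.left, Subsingleton.elim _ _⟩⟩

theorem lfp : LocallyOfFinitePresentation Z.hom := by
  haveI := h.fin
  exact LocallyOfFinitePresentation.iff_locallyOfFiniteType.2 inferInstance

theorem finite_left {Z' : Over (Spec (.of k))} (h' : IsPt Z') (f : Z' ⟶ Z) : IsFinite f.left := by
  haveI := h.fin
  haveI : IsFinite (f.left ≫ Z.hom) := by rw [Over.w]; exact h'.fin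
  exact IsFinite.of_comp f.left Z.hom

theorem universallyOpen_left {A : Over (Spec (.of k))} (f : A ⟶ Z) : UniversallyOpen f.left := by
  haveI := h.sub; haveI := h.int
  infer_instance

theorem surjective_left {A : Over (Spec (.of k))} [Nonempty A.left] (f : A ⟶ Z) : Surjective f.left := by
  haveI := h.sub
  exact ⟨fun x => ⟨Classical.arbitrary A.left, Subsingleton.elim _ _⟩⟩

end IsPt

theorem isPt_unit : IsPt (𝟙_ (Over (Spec (.of k)))) :=
  ⟨inferInstanceAs (IsFinite (𝟙 (Spec (.of k)))), inferInstanceAs (Subsingleton (Spec (.of k))),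
    inferInstanceAs (IsIntegral (Spec (.of k)))⟩

/-- A closed point of a scheme locally of finite type over a field gives a finite extension. -/
theorem isPt_residue {Y : Over (Spec (.of k))} [LocallyOfFiniteType Y.hom] {y : Y.left}
    (hy : IsClosed ({y} : Set Y.left)) :
    IsPt (Over.mk (Y.left.fromSpecResidueField y ≫ Y.hom)) := by
  refine ⟨?_, inferInstanceAs (Subsingleton (Spec (Y.left.residueField y))), inferInstanceAs
    (IsIntegral (Spec (Y.left.residueField y)))⟩
  show IsFinite (Y.left.fromSpecResidueField y ≫ Y.hom)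
  rw [isClosed_singleton_iff_isClosedImmersion] at hy
  rw [isFinite_iff_locallyOfFiniteType_of_jacobsonSpace]
  infer_instance

/-- A geometric point factors through a finite extension. -/
theorem exists_factor {Y : Over (Spec (.of k))} [LocallyOfFiniteType Y.hom] [IsSeparated Y.hom]
    (gm : omega k ⟶ Y) :
    ∃ (Z : Over (Spec (.of k))) (θ : omega k ⟶ Z) (c : Z ⟶ Y), IsPt Z ∧ θ ≫ c = gm := by
  let g : Spec (CommRingCat.of (AlgebraicClosure k)) ⟶ Y.left := gm.left
  let y := g (IsLocalRing.closedPoint (AlgebraicClosure k))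
  haveI : IsIntegralHom gm.left := by
    haveI : IsIntegralHom (gm.left ≫ Y.hom) := by rw [Over.w]; infer_instance
    exact IsIntegralHom.of_comp gm.left Y.hom
  have hy : IsClosed ({y} : Set Y.left) := by
    simpa [y] using gm.left.isClosedMap _ (IsLocalRing.isClosed_singleton_closedPoint (AlgebraicClosure k))
  let ψ : (omega k).left ⟶ Spec (Y.left.residueField y) :=
    Spec.map (Y.left.descResidueField (Scheme.stalkClosedPointTo g))
  have hfac : ψ ≫ Y.left.fromSpecResidueField y = gm.left :=
    Scheme.descResidueField_stalkClosedPointTo_fromSpecResidueField (AlgebraicClosure k) Y.left g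
  let Z : Over (Spec (.of k)) := Over.mk (Y.left.fromSpecResidueField y ≫ Y.hom)
  have w : ψ ≫ Z.hom = (omega k).hom := by
    show ψ ≫ Y.left.fromSpecResidueField y ≫ Y.hom = _
    rw [reassoc_of% hfac, Over.w]
  exact ⟨Z, Over.homMk ψ w, Over.homMk (Y.left.fromSpecResidueField y) rfl, isPt_residue hy,
    Over.OverMorphism.ext hfac⟩

/-- Finitely many geometric points factor through one finite extension. -/
theorem exists_factor_finite {Y : Over (Spec (.of k))} [LocallyOfFiniteType Y.hom] [IsSeparated Y.hom]
    {Γ : Set (omega k ⟶ Y)} (hΓ : Γ.Finite) :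
    ∃ (Z : Over (Spec (.of k))) (θ : omega k ⟶ Z), IsPt Z ∧ ∀ γ ∈ Γ, ∃ γ', θ ≫ γ' = γ := by
  induction Γ, hΓ using Set.Finite.induction_on with
  | empty => exact ⟨_, toUnit _, isPt_unit, fun γ hγ => hγ.elim⟩
  | @insert γ Γ _ _ ih =>
    obtain ⟨Z, θ, hZ, hθ⟩ := ih
    haveI := hZ.fin
    haveI : LocallyOfFiniteType (Y ⊗ Z).hom := inferInstanceAs (LocallyOfFiniteType (pullback.fst Y.hom Z.hom ≫ Y.hom))
    haveI : IsSeparated (Y ⊗ Z).hom := inferInstanceAs (IsSeparated (pullback.fst Y.hom Z.hom ≫ Y.hom))
    obtain ⟨Z', θ', c, hZ', hc⟩ := exists_factor (lift γ θ)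
    refine ⟨Z', θ', hZ', ?_⟩
    rintro γ₁ (rfl | h)
    · exact ⟨c ≫ fst Y Z, by rw [reassoc_of% hc, lift_fst]⟩
    · obtain ⟨γ₂, rfl⟩ := hθ γ₁ h
      exact ⟨c ≫ snd Y Z ≫ γ₂, by rw [reassoc_of% hc, lift_snd_assoc]⟩

/-- The point of `Y ⊗ omega` given by a geometric point. -/
abbrev sectPt {Y : Over (Spec (.of k))} (gm : omega k ⟶ Y) : (Y ⊗ omega k).left :=
  (lift gm (𝟙 (omega k))).left (omegaPt k)

/-- Closed geometric points are sections. -/
theorem exists_section {Y : Over (Spec (.of k))} [LocallyOfFiniteType Y.hom] {y : (Y ⊗ omega k).left}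
    (hy : IsClosed ({y} : Set (Y ⊗ omega k).left)) : ∃ gm : omega k ⟶ Y, sectPt gm = y := by
  let f : (Y ⊗ omega k).left ⟶ Spec (.of (AlgebraicClosure k)) := (snd Y (omega k)).left
  haveI : LocallyOfFiniteType f :=
    MorphismProperty.of_isPullback (P := @LocallyOfFiniteType) (IsPullback.of_hasPullback Y.hom (omega k).hom) ‹_›
  let s : omega k ⟶ Y ⊗ omega k := Over.homMk (pointOfClosedPoint f y hy) (by
    show pointOfClosedPoint f y hy ≫ (Y ⊗ omega k).hom = (omega k).hom
    rw [← Over.w (snd Y (omega k))]
    exact pointOfClosedPoint_comp_assoc f y hy _)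
  have hs : s ≫ snd Y (omega k) = 𝟙 _ := Over.OverMorphism.ext (pointOfClosedPoint_comp f y hy)
  have e : lift (s ≫ fst Y (omega k)) (𝟙 (omega k)) = s := by
    apply CartesianMonoidalCategory.hom_ext
    · rw [lift_fst]
    · rw [lift_snd, hs]
  exact ⟨s ≫ fst Y (omega k), by rw [sectPt, e]; exact pointOfClosedPoint_apply f y hy _⟩

theorem jacobsonSpace_tensor {Y Z : Over (Spec (.of k))} [LocallyOfFiniteType Y.hom] [JacobsonSpace Z.left] :
    JacobsonSpace (Y ⊗ Z).left := by
  haveI : LocallyOfFiniteType (snd Y Z).left :=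
    MorphismProperty.of_isPullback (P := @LocallyOfFiniteType) (IsPullback.of_hasPullback Y.hom Z.hom) ‹_›
  exact LocallyOfFiniteType.jacobsonSpace (snd Y Z).left

/-- Base change along a morphism of the auxiliary base. -/
theorem property_whiskerLeft (P : MorphismProperty Scheme.{u}) [P.IsStableUnderBaseChange]
    (Y : Over (Spec (.of k))) {A B : Over (Spec (.of k))} {f : A ⟶ B} (hf : P f.left) : P (Y ◁ f).left :=
  MorphismProperty.of_isPullback (P := P)
    ((FpqcDescLib.isPullback_whiskerLeft f Y).map (Over.forget (Spec (.of k)))).flip hf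

/-- The geometric points over a closed point are finitely many and closed. -/
theorem finite_geomFibre {Y : Over (Spec (.of k))} [LocallyOfFiniteType Y.hom] [IsSeparated Y.hom] {x : Y.left}
    (hx : IsClosed ({x} : Set Y.left)) :
    ((fst Y (omega k)).left ⁻¹' {x}).Finite ∧
      ∀ y ∈ (fst Y (omega k)).left ⁻¹' {x}, IsClosed ({y} : Set (Y ⊗ omega k).left) := by
  let Z : Over (Spec (.of k)) := Over.mk (Y.left.fromSpecResidueField x ≫ Y.hom)
  let c : Z ⟶ Y := Over.homMk (Y.left.fromSpecResidueField x) rfl
  have hZ := isPt_residue hx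
  haveI := hZ.fin
  haveI : IsFinite c.left := by
    haveI : IsFinite (c.left ≫ Y.hom) := by rw [Over.w]; exact hZ.fin
    exact IsFinite.of_comp c.left Y.hom
  have sq := (FpqcDescLib.isPullback_whiskerRight c (omega k)).map (Over.forget (Spec (.of k)))
  haveI : IsFinite (c ▷ omega k).left := MorphismProperty.of_isPullback (P := @IsFinite) sq.flip ‹_›
  haveI : IsFinite (snd Z (omega k)).left :=
    MorphismProperty.of_isPullback (P := @IsFinite) (IsPullback.of_hasPullback Z.hom (omega k).hom) hZ.fin
  have hsub : (fst Y (omega k)).left ⁻¹' {x} ⊆ Set.range (c ▷ omega k).left := fun y hy => by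
    obtain ⟨z, hz⟩ : x ∈ Set.range c.left := by
      show x ∈ Set.range (Y.left.fromSpecResidueField x)
      rw [Scheme.range_fromSpecResidueField]
      rfl
    obtain ⟨p, hp, -⟩ := Scheme.exists_preimage_of_isPullback sq y z (by
      show (fst Y (omega k)).left y = c.left z
      rw [hz]; exact hy)
    exact ⟨p, hp⟩
  have hfin : (Set.univ : Set (Z ⊗ omega k).left).Finite :=
    ((snd Z (omega k)).left.finite_preimage_singleton (omegaPt k)).subset fun p _ => eq_omegaPt _
  refine ⟨((hfin.image (c ▷ omega k).left).subset (by rw [Set.image_univ]; exact hsub)), fun y hy => ?_⟩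
  obtain ⟨p, rfl⟩ := hsub hy
  have hpt : IsClosed ({omegaPt k} : Set (omega k).left) := by
    convert isClosed_univ (X := (omega k).left) using 1
    ext t
    simp [eq_omegaPt t]
  have hp : IsClosed ({p} : Set (Z ⊗ omega k).left) := by
    have hd : DiscreteTopology ((snd Z (omega k)).left ⁻¹' {omegaPt k} : Set (Z ⊗ omega k).left) :=
      ((snd Z (omega k)).left.isDiscrete_preimage Set.subsingleton_singleton.isDiscrete).to_subtype
    have hcl := hpt.preimage (snd Z (omega k)).left.continuous
    simpa using hcl.isClosedEmbedding_subtypeVal.isClosedMap _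
      (isClosed_discrete ({⟨p, eq_omegaPt _⟩} : Set ((snd Z (omega k)).left ⁻¹' {omegaPt k} : Set _)))
  simpa using (c ▷ omega k).left.isClosedMap _ hp

end Groth.Agent.GrpQuotLib
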