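import Groth.Agent.GrpQuotLib.Descent
import Groth.Agent.GrpQuotLib.DenseAffine
import Groth.Agent.GrpQuotLib.Restrict
import Groth.Agent.GrpQuotLib.Points
import Groth.Agent.GrpdLib.InvOpen

/-! Over a field, the quotient of a group scheme locally of finite type by a quasi-compact subgroup is
a scheme. -/

set_option backward.isDefEq.respectTransparency false
set_option backward.isDefEq.respectTransparency.types false

universe u

open CategoryTheory Limits AlgebraicGeometry MonoidalCategory CartesianMonoidalCategory MonObj TopologicalSpace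
open Groth.Agent.GrpSchLib.BundleQuot

noncomputable section

namespace Groth.Agent.GrpQuotLib

section Generic

variable {S : Scheme.{u}}

theorem nonempty_inter_of_subset_closure {X : Type*} [TopologicalSpace X] {J : Type*} [Finite J] {N : Set X}
    (hN : IsOpen N) (hne : N.Nonempty) (U : J → Set X) (hU : ∀ j, IsOpen (U j)) (h : ∀ j, N ⊆ closure (U j)) :
    (N ∩ ⋂ j, U j).Nonempty := by
  classical
  haveI := Fintype.ofFinite J
  suffices ∀ s : Finset J, (N ∩ ⋂ j ∈ s, U j).Nonempty by simpa using this Finset.univ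
  intro s
  induction s using Finset.induction_on with
  | empty => simpa using hne
  | @insert a s ha ih =>
    obtain ⟨y, hy⟩ := ih
    obtain ⟨z, hz1, hz2⟩ := mem_closure_iff.1 (h a hy.1) _ (hN.inter (isOpen_biInter_finset fun j _ => hU j)) hy
    refine ⟨z, hz1.1, ?_⟩
    simpa using ⟨hz2, by simpa using hz1.2⟩

variable {G : Over S} [GrpObj G] {Z : Over S}

/-- Right translation by a `Z`-point. -/
def transr (gm : Z ⟶ G) : G ⊗ Z ⟶ G ⊗ Z := lift (fst G Z * (snd G Z ≫ gm)) (snd G Z)

theorem transr_transr (gm dl : Z ⟶ G) : transr gm ≫ transr dl = transr (gm * dl) := by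
  refine CartesianMonoidalCategory.hom_ext _ _ ?_ ?_
  · simp only [transr, Category.assoc, lift_fst, MonObj.comp_mul, lift_snd_assoc, _root_.mul_assoc]
  · simp [transr]

instance isIso_transr (gm : Z ⟶ G) : IsIso (transr gm) := by
  have h1 : transr (1 : Z ⟶ G) = 𝟙 _ := by
    refine CartesianMonoidalCategory.hom_ext _ _ ?_ ?_ <;> simp [transr, MonObj.comp_one]
  exact ⟨transr gm⁻¹, by rw [transr_transr, mul_inv_cancel, h1], by rw [transr_transr, inv_mul_cancel, h1]⟩

theorem lift_transr (g a : Z ⟶ G) : lift g (𝟙 Z) ≫ transr a = lift (g * a) (𝟙 Z) := by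
  refine CartesianMonoidalCategory.hom_ext _ _ ?_ ?_
  · simp [transr, MonObj.comp_mul]
  · simp [transr]

variable {H : Over S} [GrpObj H] {i : H ⟶ G}

omit [GrpObj H] in
theorem isClosedImmersion_mulFst [IsSeparated G.hom] [IsSeparated Z.hom] :
    IsClosedImmersion (lift (μ[G] ▷ Z) (fst G G ▷ Z) : (G ⊗ G) ⊗ Z ⟶ (G ⊗ Z) ⊗ (G ⊗ Z)).left := by
  let U := G ⊗ Z
  let m : (G ⊗ G) ⊗ Z ⟶ U ⊗ U := lift (μ[G] ▷ Z) (fst G G ▷ Z)
  let r : U ⊗ U ⟶ (G ⊗ G) ⊗ Z :=
    lift (lift (snd U U ≫ fst G Z) ((snd U U ≫ fst G Z)⁻¹ * (fst U U ≫ fst G Z))) (snd U U ≫ snd G Z)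
  have hmr : m ≫ r = 𝟙 _ := by
    refine CartesianMonoidalCategory.hom_ext _ _ (CartesianMonoidalCategory.hom_ext _ _ ?_ ?_) ?_
    · simp [m, r]
    · simp only [m, r, Category.assoc, lift_fst_assoc, lift_snd, lift_fst, MonObj.comp_mul, GrpObj.comp_inv,
        lift_snd_assoc, whiskerRight_fst, Category.id_comp]
      rw [MonObj.mul_eq_mul, MonObj.comp_mul, inv_mul_cancel_left]
    · simp [m, r]
  haveI : IsSeparated U.hom := inferInstanceAs (IsSeparated (pullback.fst G.hom Z.hom ≫ G.hom))
  haveI : IsSeparated (U ⊗ U).hom := inferInstanceAs (IsSeparated (pullback.fst U.hom U.hom ≫ U.hom))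
  haveI : IsSeparated r.left := by
    haveI : IsSeparated (r.left ≫ ((G ⊗ G) ⊗ Z).hom) := by rw [Over.w]; infer_instance
    exact IsSeparated.of_comp r.left ((G ⊗ G) ⊗ Z).hom
  haveI : IsClosedImmersion (m.left ≫ r.left) := by
    rw [← Over.comp_left, hmr, Over.id_left]; infer_instance
  exact IsClosedImmersion.of_comp m.left r.left

omit [GrpObj H] in
theorem lift_rel_eq : lift (relT i Z) (relS Z) = ((G ◁ i) ▷ Z) ≫ lift (μ[G] ▷ Z) (fst G G ▷ Z) := by
  rw [comp_lift, ← MonoidalCategory.comp_whiskerRight, ← MonoidalCategory.comp_whiskerRight, whiskerLeft_fst]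

omit [GrpObj H] in
theorem property_whiskerLeft_whiskerRight (P : MorphismProperty Scheme.{u}) [P.IsStableUnderBaseChange]
    (hi : P i.left) : P ((G ◁ i) ▷ Z).left :=
  MorphismProperty.of_isPullback (P := P)
    ((FpqcDescLib.isPullback_whiskerRight (G ◁ i) Z).map (Over.forget S)).flip
    (MorphismProperty.of_isPullback (P := P)
      ((FpqcDescLib.isPullback_whiskerLeft i G).map (Over.forget S)).flip hi)

omit [GrpObj H] in
theorem quasiCompact_lift_rel [IsSeparated G.hom] [IsSeparated Z.hom] [QuasiCompact i.left] :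
    QuasiCompact (Limits.prod.lift (relT i Z) (relS Z)).left := by
  let U := G ⊗ Z
  let f : relObj (G := G) (H := H) Z ⟶ U ⊗ U := lift (relT i Z) (relS Z)
  haveI : QuasiCompact f.left := by
    haveI := isClosedImmersion_mulFst (G := G) (Z := Z)
    haveI := property_whiskerLeft_whiskerRight (Z := Z) (i := i) @QuasiCompact ‹_›
    show QuasiCompact (lift (relT i Z) (relS Z)).left
    rw [lift_rel_eq, Over.comp_left]
    infer_instance
  let e : (U ⊗ U) ≅ (U ⨯ U) :=
    ⟨Limits.prod.lift (fst U U) (snd U U), lift Limits.prod.fst Limits.prod.snd,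
      by apply CartesianMonoidalCategory.hom_ext <;> simp, by apply Limits.prod.hom_ext <;> simp⟩
  have he : Limits.prod.lift (relT i Z) (relS Z) = f ≫ e.hom := by
    apply Limits.prod.hom_ext
    · rw [Category.assoc]; erw [Limits.prod.lift_fst, Limits.prod.lift_fst, lift_fst]
    · rw [Category.assoc]; erw [Limits.prod.lift_snd, Limits.prod.lift_snd, lift_snd]
  haveI : IsIso e.hom.left := ((Over.forget S).mapIso e).isIso_hom
  rw [he, Over.comp_left]
  infer_instance

end Generic

variable {k : Type u} [Field k] {G H : Over (Spec (.of k))} [GrpObj G] [GrpObj H] {i : H ⟶ G} [IsMonHom i] [Mono i]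
  [LocallyOfFiniteType G.hom] [IsSeparated G.hom] [LocallyOfFiniteType H.hom] [QuasiCompact i.left]

instance : LocallyOfFinitePresentation H.hom :=
  LocallyOfFinitePresentation.iff_locallyOfFiniteType.2 inferInstance

omit [IsSeparated G.hom] [QuasiCompact i.left] in
theorem IsOpenQuot.locallyOfFiniteType {Z W X : Over (Spec (.of k))} [LocallyOfFiniteType Z.hom]
    {w : W ⟶ G ⊗ Z} {p : W ⟶ X} (h : IsOpenQuot i Z w p) : LocallyOfFiniteType X.hom := by
  haveI := h.openImm
  haveI : LocallyOfFiniteType (G ⊗ Z).hom :=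
    inferInstanceAs (LocallyOfFiniteType (pullback.fst G.hom Z.hom ≫ G.hom))
  haveI : LocallyOfFiniteType (p.left ≫ X.hom) := by
    rw [Over.w, ← Over.w w]; infer_instance
  obtain ⟨h1, h2, h3⟩ := h.cover
  exact SrcDescent.locallyOfFiniteType_of_fppf_comp (f := p.left) (g := X.hom)

/-- Every closed point has a neighbourhood with a quotient. -/
theorem exists_openQuot_mem (x : G.left) (hx : IsClosed ({x} : Set G.left)) :
    ∃ (W X : Over (Spec (.of k))) (w : W ⟶ G ⊗ 𝟙_ _) (p : W ⟶ X), IsOpenQuot i (𝟙_ _) w p ∧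
      (lift (𝟙 G) (toUnit G)).left x ∈ Set.range w.left := by
  classical
  let S := Spec (CommRingCat.of k)
  haveI : IsSeparated (𝟙_ (Over S)).hom := inferInstanceAs (IsSeparated (𝟙 S))
  haveI : LocallyOfFiniteType (𝟙_ (Over S)).hom := inferInstanceAs (LocallyOfFiniteType (𝟙 S))
  haveI : Nonempty (omega k).left := ⟨omegaPt k⟩
  obtain ⟨W0, X0, w0, p0, h0, -, hne0⟩ := exists_max i (𝟙_ (Over S))
  haveI : Nonempty W0.left := hne0 quasiCompact_lift_rel
    ⟨(lift (1 : 𝟙_ (Over S) ⟶ G) (𝟙 _)).left (IsLocalRing.closedPoint k)⟩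
  haveI := h0.openImm
  -- a geometric point over the given open quotient
  haveI : Surjective (G ◁ toUnit (omega k)).left :=
    property_whiskerLeft @Surjective G (isPt_unit.surjective_left _)
  haveI : JacobsonSpace (G ⊗ omega k).left := by
    haveI : JacobsonSpace (omega k).left := inferInstanceAs (JacobsonSpace (Spec (.of (AlgebraicClosure k))))
    exact jacobsonSpace_tensor
  obtain ⟨y0, hy0U, hy0⟩ := nonempty_inter_closedPoints
    (Z := (G ◁ toUnit (omega k)).left ⁻¹' Set.range w0.left)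
    (by
      obtain ⟨v⟩ := ‹Nonempty W0.left›
      obtain ⟨y, hy⟩ := (G ◁ toUnit (omega k)).left.surjective (w0.left v)
      exact ⟨y, v, hy.symm⟩)
    ((w0.left.opensRange.isOpen.preimage (G ◁ toUnit (omega k)).left.continuous).isLocallyClosed)
  obtain ⟨a0, rfl⟩ := exists_section hy0
  obtain ⟨hEfin, hEcl⟩ := finite_geomFibre (Y := G) hx
  let E := (fst G (omega k)).left ⁻¹' {x}
  haveI : Finite E := hEfin.to_subtype
  choose a ha using fun y : E => exists_section (hEcl y.1 y.2)
  obtain ⟨Z, θ, hZ, hθ⟩ := exists_factor_finite (Set.finite_range fun y : E => a y * a0⁻¹)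
  choose gam hgam using fun y : E => hθ _ ⟨y, rfl⟩
  haveI := hZ.fin
  -- over `Z`
  obtain ⟨W, X, w, p, h, hmax, -⟩ := exists_max i Z
  haveI := h.openImm
  obtain ⟨hp1, hp2, hp3⟩ := h.cover
  let θG := (G ◁ θ).left
  have hθG : ∀ b : omega k ⟶ G, θG (sectPt b) = (lift b θ).left (omegaPt k) := fun b => by
    show _ = _
    rw [← left_apply_comp, lift_whiskerLeft, Category.id_comp]
  have hmem : ∀ y : E, θG y.1 ∈ Set.range w.left := fun y => by
    obtain ⟨W', X', w', p', g', r', h', -, -, -, hr'⟩ := h0.exists_baseChange (toUnit Z)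
    apply hmax _ _ _ _ (h'.transl (gam y))
    obtain ⟨v, hv⟩ : (lift a0 θ).left (omegaPt k) ∈ Set.range w'.left := by
      rw [hr', Set.mem_preimage, ← left_apply_comp]
      have : lift a0 θ ≫ (G ◁ toUnit Z) = lift a0 (𝟙 _) ≫ (G ◁ toUnit (omega k)) := by
        apply CartesianMonoidalCategory.hom_ext
        · simp
        · exact toUnit_unique _ _
      rw [this]
      exact hy0U
    refine ⟨v, ?_⟩
    rw [← ha y, hθG]
    show (GrpQuotLib.transl (gam y)).left (w'.left v) = _
    rw [hv, ← left_apply_comp]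
    refine congrArg (fun f : omega k ⟶ G ⊗ Z => f.left (omegaPt k)) ?_
    apply CartesianMonoidalCategory.hom_ext
    · rw [Category.assoc, comp_transl_fst, ← Category.assoc, lift_snd, lift_fst, hgam, inv_mul_cancel_right, lift_fst]
    · simp [transl]
  choose wy hwy using hmem
  haveI : LocallyOfFiniteType X.hom := h.locallyOfFiniteType
  haveI : IsLocallyNoetherian X.left := LocallyOfFiniteType.isLocallyNoetherian X.hom
  choose A hA hvA using fun y : E => exists_isAffineOpen_mem_and_subset (X := X.left) (U := ⊤)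
    (x := p.left (wy y)) trivial
  let Vo : X.left.Opens := ⨆ y, A y
  haveI : NoetherianSpace (Vo : Scheme.{u}) := by
    have hAn : ∀ y, NoetherianSpace (A y : Set X.left) := fun y => by
      haveI := IsLocallyNoetherian.component_noetherian (X := X.left) ⟨A y, hA y⟩
      exact noetherianSpace_of_isAffineOpen _ (hA y)
    have := @NoetherianSpace.iUnion _ _ _ (fun y => (A y : Set X.left)) _ hAn
    show NoetherianSpace ((⨆ y, A y : X.left.Opens) : Set X.left)
    rw [Opens.coe_iSup]
    exact this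
  obtain ⟨U, hU, hUd⟩ := exists_dense_affineOpen (Vo : Scheme.{u})
  let A1 : X.left.Opens := Vo.ι ''ᵁ U
  have hA1 : IsAffineOpen A1 := hU.image_of_isOpenImmersion _
  have hVA : (Vo : Set X.left) ⊆ closure (A1 : Set X.left) := fun v hv => by
    have := image_closure_subset_closure_image (s := (U : Set (Vo : Scheme.{u}))) Vo.ι.continuous
    rw [hUd.closure_eq, Set.image_univ, Vo.range_ι] at this
    exact this hv
  obtain ⟨W1, r1, p1, h1, -, hr1⟩ := h.restrict A1
  let P1 : Set (G ⊗ omega k).left := θG ⁻¹' (w.left '' (p.left ⁻¹' (A1 : Set X.left)))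
  let PV : Set (G ⊗ omega k).left := θG ⁻¹' (w.left '' (p.left ⁻¹' (Vo : Set X.left)))
  haveI : UniversallyOpen θG := property_whiskerLeft @UniversallyOpen G (hZ.universallyOpen_left θ)
  have hsub : PV ⊆ closure P1 :=
    ((Set.preimage_mono ((Set.image_mono ((Set.preimage_mono hVA).trans
      (p.left.isOpenMap.preimage_closure_subset_closure_preimage))).trans
        (image_closure_subset_closure_image w.left.continuous))).trans
      θG.isOpenMap.preimage_closure_subset_closure_preimage)
  have hP1 : IsOpen P1 :=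
    (w.left.isOpenEmbedding.isOpenMap _ (A1.isOpen.preimage p.left.continuous)).preimage θG.continuous
  have hPV : IsOpen PV :=
    (w.left.isOpenEmbedding.isOpenMap _ (Vo.isOpen.preimage p.left.continuous)).preimage θG.continuous
  let R : E → ((G ⊗ omega k).left ⟶ (G ⊗ omega k).left) := fun y => (transr (a y)).left
  have hRiso : ∀ y, IsIso (R y) := fun y => inferInstanceAs (IsIso ((Over.forget S).map (transr (a y))))
  have hR : ∀ (y : E) (g : omega k ⟶ G), R y (sectPt g) = sectPt (g * a y) := fun y g => by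
    show (transr (a y)).left _ = _
    rw [← left_apply_comp, lift_transr]
  obtain ⟨z, ⟨-, hz⟩, hzc⟩ := nonempty_inter_closedPoints
    (Z := (⋂ y, R y ⁻¹' PV) ∩ ⋂ y, R y ⁻¹' P1)
    (nonempty_inter_of_subset_closure (isOpen_iInter_of_finite fun y => hPV.preimage (R y).continuous)
      ⟨sectPt 1, Set.mem_iInter.2 fun y => by
        have hy : R y (sectPt 1) = y.1 := by rw [hR, _root_.one_mul, ha]
        rw [Set.mem_preimage, hy]
        exact ⟨wy y, Opens.mem_iSup.2 ⟨y, hvA y |>.1⟩, hwy y⟩⟩
      _ (fun y => hP1.preimage (R y).continuous) fun y => by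
        haveI := hRiso y
        exact (Set.iInter_subset _ y).trans ((Set.preimage_mono hsub).trans
          (R y).isOpenMap.preimage_closure_subset_closure_preimage))
    (((isOpen_iInter_of_finite fun y => hPV.preimage (R y).continuous).inter
      (isOpen_iInter_of_finite fun y => hP1.preimage (R y).continuous)).isLocallyClosed)
  obtain ⟨g, rfl⟩ := exists_section hzc
  -- over `Z'`
  haveI : LocallyOfFiniteType (G ⊗ Z).hom :=
    inferInstanceAs (LocallyOfFiniteType (pullback.fst G.hom Z.hom ≫ G.hom))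
  haveI : IsSeparated (G ⊗ Z).hom := inferInstanceAs (IsSeparated (pullback.fst G.hom Z.hom ≫ G.hom))
  obtain ⟨Z', θ', c, hZ', hc⟩ := exists_factor (lift g θ)
  haveI := hZ'.fin
  haveI := hZ'.flat; haveI := hZ'.surjective; haveI := hZ'.lfp
  let f : Z' ⟶ Z := c ≫ snd G Z
  let g' : Z' ⟶ G := c ≫ fst G Z
  have hg' : θ' ≫ g' = g := by rw [reassoc_of% hc, lift_fst]
  have hf : θ' ≫ f = θ := by rw [reassoc_of% hc, lift_snd]
  haveI : IsFinite f.left := hZ.finite_left hZ' f
  obtain ⟨W2, X2, w2, p2, gX, r2, h2, -, -, hgX, hr2⟩ := h1.exists_baseChange f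
  haveI : IsAffineHom gX.left := hgX inferInstance
  haveI : IsAffine (Over.mk (A1.ι ≫ X.hom)).left := hA1
  haveI : IsAffine X2.left := isAffine_of_isAffineHom gX.left
  let w3 := w2 ≫ GrpQuotLib.transl g'⁻¹
  have h3 : IsOpenQuot i Z' w3 p2 := h2.transl _
  haveI := h3.openImm
  let π := (fst G Z').left
  haveI : IsFinite π :=
    MorphismProperty.of_isPullback (P := @IsFinite) (IsPullback.of_hasPullback G.hom Z'.hom).flip hZ'.fin
  have hfib : ∀ z : (G ⊗ Z').left, π z = x → z ∈ Set.range w3.left := fun z hz' => by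
    haveI : Surjective (G ◁ θ').left := property_whiskerLeft @Surjective G (hZ'.surjective_left θ')
    obtain ⟨y, rfl⟩ := (G ◁ θ').left.surjective z
    have hy : y ∈ E := by
      show (fst G (omega k)).left y = x
      rw [← hz', ← whiskerLeft_fst G θ']
      rfl
    obtain ⟨y, rfl⟩ : ∃ y' : E, y'.1 = y := ⟨⟨y, hy⟩, rfl⟩
    have hz1 := Set.mem_iInter.1 hz y
    rw [Set.mem_preimage, hR] at hz1
    obtain ⟨v, hv⟩ : (lift (g * a y) θ').left (omegaPt k) ∈ Set.range w2.left := by
      rw [hr2, Set.mem_preimage, ← left_apply_comp, lift_whiskerLeft, hf]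
      show _ ∈ Set.range (r1 ≫ w).left
      obtain ⟨v, hv, hv'⟩ := hz1
      rw [← hr1] at hv
      obtain ⟨v', rfl⟩ := hv
      exact ⟨v', hv'.trans (hθG _)⟩
    refine ⟨v, ?_⟩
    rw [← ha y]
    show (GrpQuotLib.transl g'⁻¹).left (w2.left v) = (G ◁ θ').left (sectPt (a y))
    rw [hv, ← left_apply_comp, ← left_apply_comp, lift_whiskerLeft, Category.id_comp]
    refine congrArg (fun f : omega k ⟶ G ⊗ Z' => f.left (omegaPt k)) ?_
    apply CartesianMonoidalCategory.hom_ext
    · rw [Category.assoc, comp_transl_fst, ← Category.assoc, lift_snd, lift_fst, lift_fst, GrpObj.comp_inv, hg',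
        inv_mul_cancel_left]
    · simp [transl]
  let O : G.left.Opens := ⟨(π '' (Set.range w3.left)ᶜ)ᶜ,
    (π.isClosedMap _ w3.left.opensRange.isOpen.isClosed_compl).isOpen_compl⟩
  have hxO : x ∈ O := by
    rintro ⟨z, hz1, hz2⟩
    exact hz1 (hfib z hz2)
  let Oo : Over S := Over.mk (O.ι ≫ G.hom)
  let o : Oo ⟶ G := Over.homMk O.ι rfl
  haveI : IsOpenImmersion o.left := inferInstanceAs (IsOpenImmersion O.ι)
  have sqo := (FpqcDescLib.isPullback_whiskerRight o Z').map (Over.forget S)
  haveI : IsOpenImmersion (o ▷ Z').left :=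
    MorphismProperty.of_isPullback (P := @IsOpenImmersion) sqo.flip ‹_›
  have hran : Set.range (o ▷ Z').left = π ⁻¹' (O : Set G.left) := by
    ext z
    constructor
    · rintro ⟨v, rfl⟩
      show π ((o ▷ Z').left v) ∈ O
      rw [← left_apply_comp, whiskerRight_fst, left_apply_comp]
      exact ((fst Oo Z').left v).2
    · intro hz
      obtain ⟨v, hv, -⟩ := Scheme.exists_preimage_of_isPullback sqo z ⟨π z, hz⟩ rfl
      exact ⟨v, hv⟩
  obtain ⟨V, j, q, hj, h4⟩ := h3.exists_of_subset (o ▷ Z') (by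
      rw [hran]
      intro z hz
      by_contra hzn
      exact hz ⟨z, hzn, rfl⟩)
    (fun {T} t b hab => exists_lift_of_range_subset _ b (by
      rw [hran]
      rintro _ ⟨s, rfl⟩ ⟨z, hzn, hzs⟩
      obtain ⟨-, cH, hcH⟩ := hab
      let bG := b ≫ fst G Z'
      let aG := (t ≫ o ▷ Z') ≫ fst G Z'
      have hrel : Rel i Z' (aG ▷ Z') (bG ▷ Z') := by
        refine ⟨by simp, fst T Z' ≫ cH, ?_⟩
        rw [whiskerRight_fst, whiskerRight_fst, show bG = aG * (cH ≫ i) from hcH, MonObj.comp_mul, Category.assoc]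
      obtain ⟨τ, hτ1, hτ2⟩ := Scheme.exists_preimage_of_isPullback
        ((FpqcDescLib.isPullback_whiskerRight bG Z').map (Over.forget S)) z s hzs
      refine hzn (hτ1 ▸ h3.mem_range_of_rel _ _ hrel τ ?_)
      by_contra han
      have : π ((aG ▷ Z').left τ) ∈ O := by
        rw [← left_apply_comp, whiskerRight_fst, left_apply_comp]
        show aG.left _ ∈ O
        rw [show aG = t ≫ fst Oo Z' ≫ o by rw [← whiskerRight_fst, ← Category.assoc]]
        exact ((t ≫ fst Oo Z').left _).2
      exact this ⟨_, han, rfl⟩))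
  haveI : LocallyOfFiniteType V.hom := h4.locallyOfFiniteType
  haveI : JacobsonSpace V.left := by
    haveI : JacobsonSpace (Spec (CommRingCat.of k)) := inferInstance
    exact LocallyOfFiniteType.jacobsonSpace V.hom
  obtain ⟨M, qM, hM⟩ := h4.descend o (fun F hF _ => by
      haveI := hj
      obtain ⟨φ, hφ1, hφ2⟩ := GrpdLib.exists_basicOpen_of_finite (isAffineOpen_top X2.left) (hF.image j.left)
        j.left.opensRange (fun _ _ => trivial) (by rintro _ ⟨v, -, rfl⟩; exact ⟨v, rfl⟩)
      exact ⟨_, ((isAffineOpen_top X2.left).basicOpen φ).preimage_of_isOpenImmersion j.left hφ2,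
        fun v hv => hφ1 ⟨v, hv, rfl⟩⟩)
    (fun C hC hne => (nonempty_inter_closedPoints hne hC.isLocallyClosed))
  refine ⟨Oo, M, _, qM, hM, ⟨x, hxO⟩, ?_⟩
  rw [show lift o (toUnit Oo) = o ≫ lift (𝟙 G) (toUnit G) by
    apply CartesianMonoidalCategory.hom_ext
    · rw [lift_fst, Category.assoc, lift_fst, Category.comp_id]
    · exact toUnit_unique _ _]
  rfl

/-- The quotient exists as a scheme. -/
theorem exists_quotient :
    ∃ (X : Over (Spec (.of k))) (P : G ⟶ X), Cover P ∧ LocallyOfFiniteType X.hom ∧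
      ∀ {T : Over (Spec (.of k))} (a b : T ⟶ G), a ≫ P = b ≫ P ↔ ∃ h : T ⟶ H, b = a * (h ≫ i) := by
  let S := Spec (CommRingCat.of k)
  haveI : LocallyOfFiniteType (𝟙_ (Over S)).hom := inferInstanceAs (LocallyOfFiniteType (𝟙 S))
  obtain ⟨W, X, w, p, h, hmax, -⟩ := exists_max i (𝟙_ (Over S))
  haveI := h.openImm
  let e : G ≅ G ⊗ 𝟙_ (Over S) := ⟨lift (𝟙 G) (toUnit G), fst _ _, lift_fst _ _, by
    apply CartesianMonoidalCategory.hom_ext
    · simp
    · exact toUnit_unique _ _⟩
  haveI : IsIso e.hom.left := ((Over.forget S).mapIso e).isIso_hom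
  haveI : JacobsonSpace G.left := LocallyOfFiniteType.jacobsonSpace G.hom
  have hw : Function.Surjective w.left.base := fun z => by
    obtain ⟨x, rfl⟩ := e.hom.left.surjective z
    by_contra hx
    obtain ⟨x', hx', hx'c⟩ := nonempty_inter_closedPoints (Z := e.hom.left ⁻¹' (Set.range w.left)ᶜ) ⟨x, hx⟩
      (w.left.opensRange.isOpen.isClosed_compl.preimage e.hom.left.continuous).isLocallyClosed
    obtain ⟨W', X', w', p', h', hmem⟩ := exists_openQuot_mem (i := i) x' hx'c
    exact hx' (hmax _ _ _ _ h' hmem)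
  obtain ⟨P, hP, hker⟩ := h.exists_total hw
  refine ⟨X, e.hom ≫ P, Cover.iso_comp e hP, h.locallyOfFiniteType, fun a b => ?_⟩
  rw [← Category.assoc, ← Category.assoc, hker]
  simp only [Rel, e, Category.assoc, lift_fst, lift_snd, Category.comp_id]
  exact ⟨And.right, fun h => ⟨toUnit_unique _ _, h⟩⟩

end Groth.Agent.GrpQuotLib
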