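import Groth.Agent.GrpQuotLib.Sheaf

/-! Translations and base change of open quotients. -/

set_option backward.isDefEq.respectTransparency false
set_option backward.isDefEq.respectTransparency.types false

universe u

open CategoryTheory Limits AlgebraicGeometry MonoidalCategory CartesianMonoidalCategory MonObj
open Groth.Agent.GrpSchLib.BundleQuot Groth.Agent.GrpSchLib.TopDescent

noncomputable section

namespace Groth.Agent.GrpQuotLib

variable {S : Scheme.{u}} {G H : Over S} [GrpObj G] [GrpObj H] {i : H ⟶ G} {Z : Over S}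

/-- Left translation by a `Z`-point. -/
def transl (gm : Z ⟶ G) : G ⊗ Z ⟶ G ⊗ Z := lift ((snd G Z ≫ gm) * fst G Z) (snd G Z)

omit [GrpObj H] in
@[reassoc]
theorem comp_transl_fst {T : Over S} (gm : Z ⟶ G) (a : T ⟶ G ⊗ Z) :
    a ≫ transl gm ≫ fst G Z = (a ≫ snd G Z ≫ gm) * (a ≫ fst G Z) := by
  rw [transl, lift_fst, MonObj.comp_mul]

theorem comp_transl_snd {T : Over S} (gm : Z ⟶ G) (a : T ⟶ G ⊗ Z) :
    a ≫ transl gm ≫ snd G Z = a ≫ snd G Z := by
  rw [transl, lift_snd]

theorem transl_transl (gm dl : Z ⟶ G) : transl gm ≫ transl dl = transl (dl * gm) := by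
  refine CartesianMonoidalCategory.hom_ext _ _ ?_ ?_
  · rw [Category.assoc, comp_transl_fst, ← Category.assoc]
    simp only [transl, lift_snd, lift_fst, MonObj.comp_mul, _root_.mul_assoc]
  · simp [transl]

theorem transl_one : transl (1 : Z ⟶ G) = 𝟙 _ := by
  refine CartesianMonoidalCategory.hom_ext _ _ ?_ ?_ <;> simp [transl, MonObj.comp_one]

instance isIso_transl (gm : Z ⟶ G) : IsIso (transl gm) :=
  ⟨transl gm⁻¹, by rw [transl_transl, inv_mul_cancel, transl_one],
    by rw [transl_transl, mul_inv_cancel, transl_one]⟩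

omit [GrpObj H] in
theorem rel_transl (gm : Z ⟶ G) {T : Over S} (a b : T ⟶ G ⊗ Z) :
    Rel i Z (a ≫ transl gm) (b ≫ transl gm) ↔ Rel i Z a b := by
  simp only [Rel, Category.assoc, comp_transl_fst, comp_transl_snd]
  constructor
  · rintro ⟨h1, h, h2⟩
    refine ⟨h1, h, ?_⟩
    rw [← Category.assoc b, ← h1, Category.assoc, _root_.mul_assoc] at h2
    exact mul_left_cancel h2
  · rintro ⟨h1, h, h2⟩
    refine ⟨h1, h, ?_⟩
    rw [← Category.assoc b, ← h1, Category.assoc, h2, _root_.mul_assoc]

theorem IsOpenQuot.transl {W X : Over S} {w : W ⟶ G ⊗ Z} {p : W ⟶ X} (h : IsOpenQuot i Z w p) (gm : Z ⟶ G) :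
    IsOpenQuot i Z (w ≫ GrpQuotLib.transl gm) p where
  openImm := by
    haveI := h.openImm
    haveI : IsIso (GrpQuotLib.transl gm).left := inferInstanceAs (IsIso ((Over.forget S).map (GrpQuotLib.transl gm)))
    rw [Over.comp_left]
    infer_instance
  cover := h.cover
  stable a b hab := by
    have hb : b = (b ≫ inv (GrpQuotLib.transl gm)) ≫ GrpQuotLib.transl gm := by simp
    rw [hb, ← Category.assoc, rel_transl] at hab
    obtain ⟨b', hb'⟩ := h.stable a _ hab
    exact ⟨b', by rw [← Category.assoc, hb']; simp⟩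
  kernel a b := by rw [h.kernel, ← Category.assoc a, ← Category.assoc b, rel_transl]

/-- An open quotient maps to the base. -/
theorem IsOpenQuot.exists_toBase {W X : Over S} {w : W ⟶ G ⊗ Z} {p : W ⟶ X} (h : IsOpenQuot i Z w p) :
    ∃ q : X ⟶ Z, p ≫ q = w ≫ snd G Z := by
  refine (h.cover.hasLocSec.existsUnique_desc (w ≫ snd G Z) fun T a b hab => ?_).exists
  have := ((h.kernel a b).1 hab).1
  simpa only [Category.assoc] using this

/-- Base change of an open quotient. -/
theorem IsOpenQuot.exists_baseChange {W X : Over S} {w : W ⟶ G ⊗ Z} {p : W ⟶ X} (h : IsOpenQuot i Z w p)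
    {Z' : Over S} (f : Z' ⟶ Z) :
    ∃ (W' X' : Over S) (w' : W' ⟶ G ⊗ Z') (p' : W' ⟶ X') (g : X' ⟶ X) (r : W' ⟶ W), IsOpenQuot i Z' w' p' ∧
      p' ≫ g = r ≫ p ∧ w' ≫ (G ◁ f) = r ≫ w ∧ (IsAffineHom f.left → IsAffineHom g.left) ∧
      Set.range w'.left.base = (G ◁ f).left.base ⁻¹' Set.range w.left.base := by
  obtain ⟨q, hq⟩ := h.exists_toBase
  let W' := pullback (w ≫ snd G Z) f
  let r : W' ⟶ W := pullback.fst _ _
  let z : W' ⟶ Z' := pullback.snd _ _
  have hz : r ≫ w ≫ snd G Z = z ≫ f := pullback.condition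
  let w' : W' ⟶ G ⊗ Z' := lift (r ≫ w ≫ fst G Z) z
  let p' : W' ⟶ pullback q f := pullback.lift (r ≫ p) z (by rw [Category.assoc, hq, hz])
  have hw : w' ≫ (G ◁ f) = r ≫ w := by
    refine CartesianMonoidalCategory.hom_ext _ _ ?_ ?_
    · simp [w']
    · simp [w', hz]
  haveI := h.openImm
  haveI : Mono w := (Over.forget S).mono_of_mono_map (inferInstanceAs (Mono w.left))
  have sqW : IsPullback r w' w (G ◁ f) := by
    refine ⟨⟨hw.symm⟩, ⟨PullbackCone.IsLimit.mk _
      (fun c => pullback.lift c.fst (c.snd ≫ snd G Z') ?_) (fun c => pullback.lift_fst _ _ _) ?_ ?_⟩⟩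
    · have := c.condition =≫ snd G Z
      simpa only [Category.assoc, whiskerLeft_snd] using this
    · intro c
      refine CartesianMonoidalCategory.hom_ext _ _ ?_ ?_
      · have := c.condition =≫ fst G Z
        simp only [Category.assoc, whiskerLeft_fst] at this
        rw [Category.assoc, lift_fst, pullback.lift_fst_assoc, this]
      · rw [Category.assoc, lift_snd, pullback.lift_snd]
    · intro c m h1 h2
      apply pullback.hom_ext
      · rw [h1, pullback.lift_fst]
      · rw [pullback.lift_snd, ← h2, Category.assoc, lift_snd]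
  have hopen : IsOpenImmersion w'.left :=
    MorphismProperty.of_isPullback (P := @IsOpenImmersion) (sqW.map (Over.forget S)) h.openImm
  have sqP : IsPullback r p' p (pullback.fst q f) := by
    refine IsPullback.of_bot ?_ (pullback.lift_fst _ _ _).symm (IsPullback.of_hasPullback q f)
    rw [pullback.lift_snd, hq]
    exact IsPullback.of_hasPullback _ _
  have hcov : Cover p' := by
    obtain ⟨h1, h2, h3⟩ := h.cover
    exact ⟨MorphismProperty.of_isPullback (P := @Flat) (sqP.map (Over.forget S)) h1,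
      MorphismProperty.of_isPullback (P := @Surjective) (sqP.map (Over.forget S)) h2,
      MorphismProperty.of_isPullback (P := @LocallyOfFinitePresentation) (sqP.map (Over.forget S)) h3⟩
  have hrel : ∀ {T : Over S} (a b : T ⟶ G ⊗ Z'), Rel i Z' a b ↔
      a ≫ snd G Z' = b ≫ snd G Z' ∧ Rel i Z (a ≫ (G ◁ f)) (b ≫ (G ◁ f)) := fun a b => by
    simp only [Rel, Category.assoc, whiskerLeft_fst, whiskerLeft_snd]
    exact ⟨fun ⟨h1, h2⟩ => ⟨h1, by rw [← Category.assoc, h1, Category.assoc], h2⟩, fun ⟨h1, _, h2⟩ => ⟨h1, h2⟩⟩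
  refine ⟨W', _, w', p', pullback.fst q f, r, ⟨hopen, hcov, fun a b hab => ?_, fun a b => ?_⟩,
    pullback.lift_fst _ _ _, hw, fun hf => MorphismProperty.of_isPullback (P := @IsAffineHom)
      ((IsPullback.of_hasPullback q f).map (Over.forget S)).flip hf, ?_⟩
  · obtain ⟨-, hab'⟩ := (hrel _ _).1 hab
    rw [Category.assoc, hw, ← Category.assoc] at hab'
    obtain ⟨b', hb'⟩ := h.stable (a ≫ r) _ hab'
    exact ⟨sqW.lift b' b hb', sqW.lift_snd _ _ _⟩
  · rw [hrel]
    simp only [Category.assoc, hw, show w' ≫ snd G Z' = z from lift_snd _ _]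
    rw [← Category.assoc a r w, ← Category.assoc b r w, ← h.kernel]
    constructor
    · intro e
      exact ⟨by simpa [p', z] using e =≫ pullback.snd q f, by simpa [p', r] using e =≫ pullback.fst q f⟩
    · rintro ⟨e1, e2⟩
      apply pullback.hom_ext
      · simpa [p', r] using e2
      · simpa [p', z] using e1
  · ext x
    constructor
    · rintro ⟨y, rfl⟩
      exact ⟨r.left y, by rw [← Scheme.Hom.comp_apply, ← Over.comp_left, ← hw]; rfl⟩
    · rintro ⟨y, hy⟩
      obtain ⟨y', -, hy'⟩ := Scheme.exists_preimage_of_isPullback (sqW.map (Over.forget S)) y x hy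
      exact ⟨y', hy'⟩

/-- An open quotient covering everything is a quotient. -/
theorem IsOpenQuot.exists_total {W X : Over S} {w : W ⟶ G ⊗ Z} {p : W ⟶ X} (h : IsOpenQuot i Z w p)
    (hw : Function.Surjective w.left.base) :
    ∃ P : G ⊗ Z ⟶ X, Cover P ∧ (∀ {T : Over S} (a b : T ⟶ G ⊗ Z), a ≫ P = b ≫ P ↔ Rel i Z a b) := by
  haveI := h.openImm
  haveI : IsIso w.left := (isIso_iff_isOpenImmersion_and_epi_base w.left).mpr
    ⟨inferInstance, (TopCat.epi_iff_surjective _).mpr hw⟩
  haveI : IsIso w := by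
    haveI : IsIso ((Over.forget S).map w) := inferInstanceAs (IsIso w.left)
    exact isIso_of_reflects_iso w (Over.forget S)
  refine ⟨inv w ≫ p, ?_, fun a b => ?_⟩
  · obtain ⟨h1, h2, h3⟩ := h.cover
    haveI : IsIso (inv w).left := inferInstanceAs (IsIso ((Over.forget S).map (inv w)))
    haveI := h1; haveI := h2; haveI := h3
    exact ⟨inferInstanceAs (Flat ((inv w).left ≫ p.left)), inferInstanceAs (Surjective ((inv w).left ≫ p.left)),
      inferInstanceAs (LocallyOfFinitePresentation ((inv w).left ≫ p.left))⟩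
  · rw [← Category.assoc, ← Category.assoc, h.kernel]
    simp only [Category.assoc, IsIso.inv_hom_id, Category.comp_id]

end Groth.Agent.GrpQuotLib
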