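import Groth.Agent.AlgSpDec.LqfQuot
import Groth.Agent.AlgSpDec.LqfSplitZ
import Groth.Agent.AlgSpDec.QsDense
import Groth.Agent.AlgSpDec.DenseSubscheme
import Groth.Agent.AlgSpDec.LimOpen
import Groth.Agent.GrpSchLib.BundleQuot
import Groth.Agent.FpqcDescLib.Group
import Mathlib.AlgebraicGeometry.Morphisms.Flat
import Mathlib.CategoryTheory.Limits.Constructions.Over.Connected

/-! The quotient of a group scheme by a flat subgroup, over an auxiliary base `Z`, as an algebraic
space; opens of it which are schemes ("open quotients"). -/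

set_option backward.isDefEq.respectTransparency false
set_option backward.isDefEq.respectTransparency.types false

universe u

open CategoryTheory Limits AlgebraicGeometry MonoidalCategory CartesianMonoidalCategory MonObj AlgSp
open Groth.Agent.AlgSpLib Groth.Agent.AlgSpPts Groth.Agent.AlgSpDec Groth.Agent.GrpSchLib.BundleQuot

noncomputable section

namespace Groth.Agent.GrpQuotLib

variable {S : Scheme.{u}} {G H : Over S} [GrpObj G] [GrpObj H] (i : H ⟶ G) (Z : Over S)

/-- Two points of `G × Z` differ by a point of `H`. -/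
def Rel {T : Over S} (a b : T ⟶ G ⊗ Z) : Prop :=
  a ≫ snd G Z = b ≫ snd G Z ∧ ∃ h : T ⟶ H, b ≫ fst G Z = (a ≫ fst G Z) * (h ≫ i)

/-- An open piece of the quotient which is a scheme. -/
structure IsOpenQuot {W X : Over S} (w : W ⟶ G ⊗ Z) (p : W ⟶ X) : Prop where
  openImm : IsOpenImmersion w.left
  cover : Cover p
  stable : ∀ {T : Over S} (a : T ⟶ W) (b : T ⟶ G ⊗ Z), Rel i Z (a ≫ w) b → ∃ b', b' ≫ w = b
  kernel : ∀ {T : Over S} (a b : T ⟶ W), a ≫ p = b ≫ p ↔ Rel i Z (a ≫ w) (b ≫ w)

/-- The relation defining the quotient. -/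
abbrev relObj : Over S := (G ⊗ H) ⊗ Z
abbrev relS : relObj (G := G) (H := H) Z ⟶ G ⊗ Z := fst G H ▷ Z
abbrev relT : relObj (G := G) (H := H) Z ⟶ G ⊗ Z := ((G ◁ i) ≫ μ[G]) ▷ Z

omit [GrpObj H] in
theorem rel_iff {T : Over S} (a b : T ⟶ G ⊗ Z) :
    Rel i Z a b ↔ ∃ r : T ⟶ relObj (G := G) (H := H) Z, r ≫ relT i Z = b ∧ r ≫ relS Z = a := by
  constructor
  · rintro ⟨h1, h, h2⟩
    refine ⟨lift (lift (a ≫ fst G Z) h) (a ≫ snd G Z), ?_, ?_⟩
    · apply CartesianMonoidalCategory.hom_ext
      · rw [Category.assoc, whiskerRight_fst, lift_fst_assoc, lift_whiskerLeft_assoc, ← Hom.mul_def, h2]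
      · rw [Category.assoc, whiskerRight_snd, lift_snd, h1]
    · apply CartesianMonoidalCategory.hom_ext <;> simp
  · rintro ⟨r, rfl, rfl⟩
    refine ⟨by simp, r ≫ fst _ _ ≫ snd G H, ?_⟩
    rw [Category.assoc, whiskerRight_fst, Category.assoc, whiskerRight_fst, Hom.mul_def]
    simp only [← Category.assoc]
    congr 1
    apply CartesianMonoidalCategory.hom_ext <;> simp

variable [IsMonHom i] [Mono i]

theorem isEqvRel : AlgSp.IsEqvRel (relS (G := G) (H := H) Z) (relT i Z) where
  injective T r r' ht hs := by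
    have h1 := hs =≫ fst G Z
    have h2 := hs =≫ snd G Z
    have h3 := ht =≫ fst G Z
    simp only [Category.assoc, whiskerRight_fst, whiskerRight_snd] at h1 h2 h3
    refine CartesianMonoidalCategory.hom_ext _ _ (CartesianMonoidalCategory.hom_ext _ _ ?_ ?_) h2
    · simpa only [Category.assoc] using h1
    · have e : ∀ x : T ⟶ G ⊗ H, x ≫ (G ◁ i) ≫ μ[G] = (x ≫ fst G H) * ((x ≫ snd G H) ≫ i) := fun x => by
        rw [Hom.mul_def, ← Category.assoc]
        congr 1
        apply CartesianMonoidalCategory.hom_ext <;> simp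
      rw [← Category.assoc, e, ← Category.assoc r', e, Category.assoc r, h1, ← Category.assoc r'] at h3
      rw [← cancel_mono i, mul_left_cancel h3]
  equivalence T := by
    refine ⟨fun a => ?_, fun {a b} h => ?_, fun {a b c} h h' => ?_⟩
    · exact (rel_iff i Z a a).1 ⟨rfl, 1, by rw [MonObj.one_comp, _root_.mul_one]⟩
    · obtain ⟨h1, t, h2⟩ := (rel_iff i Z b a).2 h
      exact (rel_iff i Z a b).1 ⟨h1.symm, t⁻¹, by rw [h2, GrpObj.inv_comp, mul_inv_cancel_right]⟩
    · obtain ⟨h1, t, h2⟩ := (rel_iff i Z b a).2 h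
      obtain ⟨h1', t', h2'⟩ := (rel_iff i Z c b).2 h'
      exact (rel_iff i Z c a).1 ⟨h1'.trans h1, t' * t, by
        rw [h2, h2', MonObj.mul_comp, _root_.mul_assoc]⟩

variable [Flat H.hom] [LocallyOfFinitePresentation H.hom]

theorem property_fst_whiskerRight (P : MorphismProperty Scheme.{u}) [P.IsStableUnderBaseChange] (hP : P H.hom) :
    P (fst G H ▷ Z).left := by
  have h1 : P (fst G H).left :=
    MorphismProperty.of_isPullback (P := P) (IsPullback.of_hasPullback G.hom H.hom).flip hP
  exact MorphismProperty.of_isPullback (P := P)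
    ((FpqcDescLib.isPullback_whiskerRight (fst G H) Z).map (Over.forget S)).flip h1

instance : Flat (relS (G := G) (H := H) Z).left := property_fst_whiskerRight Z @Flat ‹_›
instance : LocallyOfFinitePresentation (relS (G := G) (H := H) Z).left :=
  property_fst_whiskerRight Z @LocallyOfFinitePresentation ‹_›

theorem exists_flip : ∃ e : relObj (G := G) (H := H) Z ≅ relObj (G := G) (H := H) Z, relT i Z = e.hom ≫ relS Z := by
  let f : relObj (G := G) (H := H) Z ⟶ relObj (G := G) (H := H) Z :=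
    lift (lift (fst _ _ ≫ (G ◁ i) ≫ μ[G]) (fst _ _ ≫ snd G H)⁻¹) (snd _ _)
  have e : ∀ {T : Over S} (x : T ⟶ G ⊗ H), x ≫ (G ◁ i) ≫ μ[G] = (x ≫ fst G H) * ((x ≫ snd G H) ≫ i) := fun x => by
    rw [Hom.mul_def, ← Category.assoc]
    congr 1
    apply CartesianMonoidalCategory.hom_ext <;> simp
  have hf : f ≫ f = 𝟙 _ := by
    refine CartesianMonoidalCategory.hom_ext _ _ (CartesianMonoidalCategory.hom_ext _ _ ?_ ?_) ?_
    · simp only [f, Category.assoc, lift_fst, lift_fst_assoc, Category.id_comp]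
      rw [e, lift_fst, lift_snd, GrpObj.inv_comp, e, mul_inv_cancel_right]
    · simp only [f, Category.assoc, lift_fst, lift_fst_assoc, lift_snd, Category.id_comp]
      rw [GrpObj.comp_inv, lift_fst_assoc, lift_snd, _root_.inv_inv]
    · simp [f]
  refine ⟨⟨f, f, hf, hf⟩, ?_⟩
  apply CartesianMonoidalCategory.hom_ext
  · show (((G ◁ i) ≫ μ[G]) ▷ Z) ≫ fst _ _ = (f ≫ (fst G H ▷ Z)) ≫ fst _ _
    rw [whiskerRight_fst, Category.assoc, whiskerRight_fst, lift_fst_assoc, lift_fst]
  · show (((G ◁ i) ≫ μ[G]) ▷ Z) ≫ snd _ _ = (f ≫ (fst G H ▷ Z)) ≫ snd _ _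
    rw [whiskerRight_snd, Category.assoc, whiskerRight_snd, lift_snd]

instance : Flat (relT i Z).left := by
  obtain ⟨e, he⟩ := exists_flip i Z
  rw [he, Over.comp_left]; infer_instance

instance : LocallyOfFinitePresentation (relT i Z).left := by
  obtain ⟨e, he⟩ := exists_flip i Z
  rw [he, Over.comp_left]; infer_instance

noncomputable abbrev Q : Sp S := QuotSh.quot Scheme.fppfPrecoverage (relS (G := G) (H := H) Z) (relT i Z)
noncomputable abbrev π : (yon S).obj (G ⊗ Z) ⟶ Q i Z := quotMap (relS (G := G) (H := H) Z) (relT i Z)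

theorem isPullback_π : IsPullback ((yon S).map (relT i Z)) ((yon S).map (relS Z)) (π i Z) (π i Z) :=
  isPullback_quotMap (isEqvRel i Z)

instance isLocallySurjective_π : Sheaf.IsLocallySurjective (π i Z) := by
  have : Epi (QuotSh.quotπ Scheme.fppfPrecoverage (relS (G := G) (H := H) Z) (relT i Z)) := by
    unfold QuotSh.quotπ
    infer_instance
  exact (CategoryTheory.Sheaf.isLocallySurjective_iff_epi _).2 (epi_comp _ _)

theorem isAlgSpace_Q : IsAlgSpace (Q i Z) := AlgSpDec.isAlgSpace_quot (isEqvRel i Z)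

theorem π_eq_iff {T : Over S} (a b : T ⟶ G ⊗ Z) :
    (yon S).map a ≫ π i Z = (yon S).map b ≫ π i Z ↔ Rel i Z a b := by
  refine ⟨fun h => ?_, fun h => ?_⟩
  · obtain ⟨r, h1, h2⟩ := exists_rel_lift (isPullback_π i Z) b a h.symm
    exact (rel_iff i Z a b).2 ⟨r, h1, h2⟩
  · obtain ⟨r, h1, h2⟩ := (rel_iff i Z a b).1 h
    rw [← h1, ← h2, Functor.map_comp, Functor.map_comp, Category.assoc, Category.assoc, (isPullback_π i Z).w]

theorem repWith_π (P : MorphismProperty Scheme.{u}) [P.IsStableUnderBaseChange]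
    [P.IsLocalAtTarget Scheme.fppfPrecoverage] (h : P (relS (G := G) (H := H) Z).left) : RepWith P (π i Z) :=
  repWith_of_locallySurjective (representable_from_yon' (isAlgSpace_Q i Z) _) _ (isPullback_π i Z) P
    ((repWith_yon_map_iff _ _).2 h)

theorem repWith_π_fppf : RepWith @Flat (π i Z) ∧ RepWith @LocallyOfFinitePresentation (π i Z) ∧
    RepWith @Surjective (π i Z) := by
  have := isLocalAtTarget_fppf (@Flat : MorphismProperty Scheme.{u})
  have := isLocalAtTarget_fppf (@LocallyOfFinitePresentation : MorphismProperty Scheme.{u})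
  have := isLocalAtTarget_fppf (@Surjective : MorphismProperty Scheme.{u})
  refine ⟨repWith_π i Z _ inferInstance, repWith_π i Z _ inferInstance, repWith_π i Z _ ⟨fun x => ?_⟩⟩
  obtain ⟨r, -, hr⟩ := (rel_iff i Z _ _).1 (⟨rfl, 1, by rw [MonObj.one_comp, _root_.mul_one]⟩ :
    Rel i Z (𝟙 (G ⊗ Z)) (𝟙 (G ⊗ Z)))
  exact ⟨r.left x, by rw [← Scheme.Hom.comp_apply, ← Over.comp_left, hr, Over.id_left]; rfl⟩

/-- The quotient is quasi-separated. -/
theorem isQuasiSeparatedSp_Q (hj : QuasiCompact (prod.lift (relT i Z) (relS Z)).left) :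
    IsQuasiSeparatedSp (Q i Z) := by
  let U := G ⊗ Z
  let b : (yon S).obj (U ⨯ U) ⟶ Q i Z ⨯ Q i Z :=
    prod.lift ((yon S).map prod.fst ≫ π i Z) ((yon S).map prod.snd ≫ π i Z)
  have : Sheaf.IsLocallySurjective b := by
    refine isLocallySurjective_of_lifts b fun X ξ => ?_
    obtain ⟨X₁, k₁, x₁, hk₁, hx₁⟩ := exists_fppf_lift_of_locallySurjective (π i Z) (ξ ≫ prod.fst)
    obtain ⟨x₁, rfl⟩ := (yon S).map_surjective x₁
    obtain ⟨X₂, k₂, x₂, hk₂, hx₂⟩ := exists_fppf_lift_of_locallySurjective (π i Z) ((yon S).map k₁ ≫ ξ ≫ prod.snd)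
    obtain ⟨x₂, rfl⟩ := (yon S).map_surjective x₂
    refine ⟨X₂, k₂ ≫ k₁, (yon S).map (prod.lift (k₂ ≫ x₁) x₂),
      MorphismProperty.comp_mem _ k₂.left k₁.left hk₂ hk₁, Limits.prod.hom_ext ?_ ?_⟩
    · rw [Category.assoc, prod.lift_fst, ← Functor.map_comp_assoc, prod.lift_fst, Functor.map_comp,
        Category.assoc, hx₁, Functor.map_comp, Category.assoc, Category.assoc]
    · rw [Category.assoc, prod.lift_snd, ← Functor.map_comp_assoc, prod.lift_snd, hx₂, Functor.map_comp,
        Category.assoc, Category.assoc]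
  have hq : IsPullback ((yon S).map (relT i Z) ≫ π i Z) ((yon S).map (prod.lift (relT i Z) (relS Z)))
      (Limits.diag (Q i Z)) b := by
    have hw : ((yon S).map (relT i Z) ≫ π i Z) ≫ Limits.diag (Q i Z) =
        (yon S).map (prod.lift (relT i Z) (relS Z)) ≫ b := by
      refine Limits.prod.hom_ext ?_ ?_
      · rw [Category.assoc, prod.lift_fst, Category.comp_id, Category.assoc, prod.lift_fst,
          ← Functor.map_comp_assoc, prod.lift_fst]
      · rw [Category.assoc, prod.lift_snd, Category.comp_id, Category.assoc, prod.lift_snd,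
          ← Functor.map_comp_assoc, prod.lift_snd, (isPullback_π i Z).w]
    have key : ∀ c : PullbackCone (Limits.diag (Q i Z)) b,
        (c.snd ≫ (yon S).map prod.fst) ≫ π i Z = c.fst ∧ (c.snd ≫ (yon S).map prod.snd) ≫ π i Z = c.fst := fun c => by
      have h1 := c.condition =≫ prod.fst
      have h2 := c.condition =≫ prod.snd
      simp only [b, Category.assoc, prod.lift_fst, prod.lift_snd, Category.comp_id] at h1 h2
      exact ⟨by rw [Category.assoc]; exact h1.symm, by rw [Category.assoc]; exact h2.symm⟩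
    refine ⟨⟨hw⟩, ⟨PullbackCone.IsLimit.mk _
      (fun c => (isPullback_π i Z).lift _ _ ((key c).1.trans (key c).2.symm)) (fun c => ?_) (fun c => ?_) ?_⟩⟩
    · rw [← Category.assoc, IsPullback.lift_fst]; exact (key c).1
    · rw [← cancel_mono (Limits.prodComparison (yon S) U U), Category.assoc]
      refine Limits.prod.hom_ext ?_ ?_
      · simp only [Category.assoc, Limits.prodComparison_fst]
        erw [← Functor.map_comp, prod.lift_fst, IsPullback.lift_fst]
      · simp only [Category.assoc, Limits.prodComparison_snd]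
        erw [← Functor.map_comp, prod.lift_snd, IsPullback.lift_snd]
    · intro c m _ hm
      refine (isPullback_π i Z).hom_ext ?_ ?_
      · rw [IsPullback.lift_fst, ← hm, Category.assoc, ← Functor.map_comp, prod.lift_fst]
      · rw [IsPullback.lift_snd, ← hm, Category.assoc, ← Functor.map_comp, prod.lift_snd]
  have := isLocalAtTarget_fppf (@QuasiCompact : MorphismProperty Scheme.{u})
  exact repWith_of_locallySurjective (isAlgSpace_Q i Z).diag b hq @QuasiCompact ((repWith_yon_map_iff _ _).2 hj)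

/-- An open quotient is an open subspace of the quotient. -/
theorem IsOpenQuot.exists_hom {W X : Over S} {w : W ⟶ G ⊗ Z} {p : W ⟶ X} (h : IsOpenQuot i Z w p) :
    ∃ j : (yon S).obj X ⟶ Q i Z, (yon S).map p ≫ j = (yon S).map w ≫ π i Z ∧
      RepWith @IsOpenImmersion j := by
  obtain ⟨hp1, hp2, hp3⟩ := h.cover
  have hfp : fppf p.left := fppf_of p.left
  haveI : Sheaf.IsLocallySurjective ((yon S).map p) :=
    isLocallySurjective_of_lifts _ fun T g => by
      obtain ⟨g, rfl⟩ := (yon S).map_surjective g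
      refine ⟨pullback p g, pullback.snd p g, (yon S).map (pullback.fst p g), ?_,
        by rw [← Functor.map_comp, ← Functor.map_comp, pullback.condition]⟩
      exact MorphismProperty.of_isPullback ((IsPullback.of_hasPullback p g).map (Over.forget S)) hfp
  have sqp : IsPullback ((yon S).map (pullback.fst p p)) ((yon S).map (pullback.snd p p)) ((yon S).map p)
      ((yon S).map p) := (IsPullback.of_hasPullback p p).map (yon S)
  obtain ⟨j, hj⟩ := exists_desc_of_kernelPair sqp ((yon S).map w ≫ π i Z) (by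
    rw [← Functor.map_comp_assoc, ← Functor.map_comp_assoc, π_eq_iff, ← h.kernel, pullback.condition])
  haveI : IsOpenImmersion w.left := h.openImm
  haveI : Mono w := (Over.forget S).mono_of_mono_map (inferInstanceAs (Mono w.left))
  have key : ∀ {T : Over S} (a : T ⟶ W) (b : T ⟶ G ⊗ Z), (yon S).map (a ≫ w) ≫ π i Z = (yon S).map b ≫ π i Z →
      ∃ b', b' ≫ w = b ∧ b' ≫ p = a ≫ p := fun a b hab => by
    obtain ⟨b', rfl⟩ := h.stable a b ((π_eq_iff i Z _ _).1 hab)
    exact ⟨b', rfl, ((h.kernel a b').2 ((π_eq_iff i Z _ _).1 hab)).symm⟩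
  refine ⟨j, hj, ?_⟩
  have hsq : IsPullback ((yon S).map p) ((yon S).map w) j (π i Z) := by
    let κ := pullback.lift (f := j) (g := π i Z) ((yon S).map p) ((yon S).map w) hj
    haveI : Mono κ := mono_of_mono_fac (show κ ≫ pullback.snd j (π i Z) = (yon S).map w from pullback.lift_snd _ _ _)
    haveI : Sheaf.IsLocallySurjective κ := isLocallySurjective_of_lifts κ fun T ξ => by
      obtain ⟨b, hb⟩ := (yon S).map_surjective (ξ ≫ pullback.snd j (π i Z))
      obtain ⟨x, hx⟩ := (yon S).map_surjective (ξ ≫ pullback.fst j (π i Z))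
      have hφ : fppf (pullback.snd p x).left :=
        MorphismProperty.of_isPullback ((IsPullback.of_hasPullback p x).map (Over.forget S)) hfp
      obtain ⟨b', hb', hb''⟩ := key (pullback.fst p x) (pullback.snd p x ≫ b) (by
        rw [Functor.map_comp, Category.assoc, ← hj, ← Functor.map_comp_assoc, pullback.condition,
          Functor.map_comp, Category.assoc, hx, Category.assoc, pullback.condition, Functor.map_comp,
          Category.assoc, hb, Category.assoc])
      refine ⟨pullback p x, pullback.snd p x, (yon S).map b', hφ, pullback.hom_ext ?_ ?_⟩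
      · rw [Category.assoc, pullback.lift_fst, ← Functor.map_comp, hb'', pullback.condition, Functor.map_comp,
          hx, Category.assoc]
      · rw [Category.assoc, pullback.lift_snd, ← Functor.map_comp, hb', Functor.map_comp, hb, Category.assoc]
    haveI := isIso_of_mono_of_locallySurjective κ
    exact (IsPullback.of_hasPullback j (π i Z)).of_iso (asIso κ).symm (Iso.refl _) (Iso.refl _) (Iso.refl _)
      (by simp [κ]) (by simp [κ]) (by simp) (by simp)
  haveI := isLocalAtTarget_fppf (@IsOpenImmersion : MorphismProperty Scheme.{u})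
  exact repWith_of_locallySurjective (representable_from_yon' (isAlgSpace_Q i Z) j) (π i Z) hsq @IsOpenImmersion
    ((repWith_yon_map_iff _ _).2 h.openImm)

/-- An open subspace which is a scheme gives an open quotient. -/
theorem exists_isOpenQuot_of_openImm {X : Over S} (j : (yon S).obj X ⟶ Q i Z) (hj : RepWith @IsOpenImmersion j) :
    ∃ (W : Over S) (w : W ⟶ G ⊗ Z) (p : W ⟶ X), IsOpenQuot i Z w p ∧
      IsPullback ((yon S).map p) ((yon S).map w) j (π i Z) := by
  let w := hj.rep.snd (π i Z)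
  let p := hj.rep.fst' (π i Z)
  have sq : IsPullback ((yon S).map p) ((yon S).map w) j (π i Z) := by
    rw [Functor.relativelyRepresentable.map_fst']
    exact hj.rep.isPullback (π i Z)
  have hw : IsOpenImmersion w.left := hj.property_snd _
  obtain ⟨h1, h2, h3⟩ := repWith_π_fppf i Z
  have h1' := (repWith_yon_map_iff (@Flat : MorphismProperty Scheme.{u}) p).1 (repWith_of_isPullback sq.flip h1)
  have h2' := (repWith_yon_map_iff (@LocallyOfFinitePresentation : MorphismProperty Scheme.{u}) p).1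
    (repWith_of_isPullback sq.flip h2)
  have h3' := (repWith_yon_map_iff (@Surjective : MorphismProperty Scheme.{u}) p).1 (repWith_of_isPullback sq.flip h3)
  haveI : Mono j := mono_of_openImm hj
  refine ⟨_, w, p, ⟨hw, ⟨h1', h3', h2'⟩, fun a b hab => ?_, fun a b => ?_⟩, sq⟩
  · have hab' : (yon S).map (a ≫ p) ≫ j = (yon S).map b ≫ π i Z := by
      rw [Functor.map_comp, Category.assoc, sq.w, ← Category.assoc, ← Functor.map_comp]
      exact (π_eq_iff i Z _ _).2 hab
    obtain ⟨l, hl⟩ := (yon S).map_surjective (sq.lift _ _ hab')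
    exact ⟨l, (yon S).map_injective (by rw [Functor.map_comp, hl, sq.lift_snd])⟩
  · rw [← π_eq_iff, ← (yon S).map_injective.eq_iff, ← cancel_mono j]
    simp only [Functor.map_comp, Category.assoc, sq.w]

/-- There is a largest open quotient. -/
theorem exists_max :
    ∃ (W X : Over S) (w : W ⟶ G ⊗ Z) (p : W ⟶ X), IsOpenQuot i Z w p ∧
      (∀ (W' X' : Over S) (w' : W' ⟶ G ⊗ Z) (p' : W' ⟶ X'), IsOpenQuot i Z w' p' →
        Set.range w'.left.base ⊆ Set.range w.left.base) ∧
      (QuasiCompact (prod.lift (relT i Z) (relS Z)).left → Nonempty (G ⊗ Z).left → Nonempty W.left) := by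
  obtain ⟨X', j, hj, hr, hmax⟩ := Groth.Agent.S10197.result (⟨Q i Z, isAlgSpace_Q i Z⟩ : Space S)
  obtain ⟨V, ⟨e⟩⟩ := hr.has_representation
  have hj' : RepWith @IsOpenImmersion ((isoOfRepresentableBy e).hom ≫ j.hom) :=
    repWith_comp (repWith_of_isIso _ _) hj
  obtain ⟨W, w, p, h, sq⟩ := exists_isOpenQuot_of_openImm i Z _ hj'
  refine ⟨W, V, w, p, h, fun W' V' w' p' h' => ?_, fun hqc hne => ?_⟩
  · obtain ⟨j', hj1, hj2⟩ := h'.exists_hom
    obtain ⟨k, hk⟩ := hmax ⟨(yon S).obj V', IsAlgSpace.yon_obj V'⟩ (ObjectProperty.homMk j') hj2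
      (isRepresentable_of_iso (Iso.refl _))
    have hk' : k.hom ≫ j.hom = j' := congrArg InducedCategory.Hom.hom hk
    have hw : ((yon S).map p' ≫ k.hom ≫ (isoOfRepresentableBy e).inv) ≫ (isoOfRepresentableBy e).hom ≫ j.hom =
        (yon S).map w' ≫ π i Z := by
      simp only [Category.assoc, Iso.inv_hom_id_assoc, hk', hj1]
    obtain ⟨l, hl⟩ := (yon S).map_surjective (sq.lift _ _ hw)
    have hlw : l ≫ w = w' := (yon S).map_injective (by rw [Functor.map_comp, hl, sq.lift_snd])
    rintro _ ⟨x, rfl⟩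
    exact ⟨l.left x, by rw [← hlw]; rfl⟩
  · obtain ⟨g⟩ := hne
    obtain ⟨X'', j'', hj'', hr'', hd, -⟩ := AlgSpDec.exists_dense_open_subscheme_of_zarQs
      (⟨Q i Z, isAlgSpace_Q i Z⟩ : Space S) ⟨PUnit.{u + 1}, fun _ => ⟨Q i Z, isAlgSpace_Q i Z⟩, fun _ => 𝟙 _,
        ⟨fun _ => repWith_of_isIso _ (𝟙 (Q i Z)), fun x => ⟨PUnit.unit, x, Points.map_id x⟩⟩,
        fun _ => isQuasiSeparatedSp_Q i Z hqc⟩
    haveI : Nonempty (Points (Q i Z)) := ⟨Points.ofPt (π i Z) g⟩
    obtain ⟨_, x, rfl⟩ := hd.nonempty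
    obtain ⟨k, hk⟩ := hmax X'' j'' hj'' hr''
    obtain ⟨v, -⟩ := (Points.schemeHomeo V).surjective
      (Points.map (isoOfRepresentableBy e).inv (Points.map k.hom x))
    haveI := h.cover.2.1
    obtain ⟨x', -⟩ := p.left.surjective v
    exact ⟨x'⟩

end Groth.Agent.GrpQuotLib
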